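import Cfsg.Agent.TAB.Big.Thirteen
import Cfsg.Agent.TAB.C3B.Ident
import Cfsg.Agent.TAB.C3B.Basic

/-!
# Elements of the types `39CD`, `87AB`, `93AB` are conjugate to their squares (helper58, TAB)
-/

set_option autoImplicit false
set_option maxRecDepth 100000

namespace Cfsg.Agent.TAB.Big

open Cfsg Cfsg.Agent.TAB.Eng Cfsg.Agent.TAB.M Cfsg.Agent.TAB.M7 Cfsg.Agent.BpSpor.MBigModel
open Cfsg.Agent.TAB.C2B (Cover CountC)
open Cfsg.Agent.H940.Eng (Base)
open Subgroup (centralizer zpowers normalizer mem_centralizer_singleton_iff)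

section gen

variable {G : Type*} [Group G] [Finite G]

theorem exists_lt {x y : G} {p : ℕ} (hp : p.Prime) (hx : orderOf x = p) (hy : orderOf y = p) (h : y ∈ zpowers x) :
    ∃ i < p, i ≠ 0 ∧ x ^ i = y := by
  obtain ⟨i, hi⟩ := (mem_powers_iff_mem_zpowers.2 h : _ ∈ Submonoid.powers x)
  have hi' : x ^ (i % p) = y := by rw [← hx, pow_mod_orderOf]; exact hi
  refine ⟨i % p, Nat.mod_lt _ hp.pos, fun h0 => ?_, hi'⟩
  rw [h0, pow_zero] at hi'
  rw [← hi', orderOf_one] at hy
  exact hp.one_lt.ne hy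

/-- not conjugate to the power by a primitive root -/
theorem not_conj_prim {p r c : ℕ} (hp : p.Prime) (h2 : ¬ p ^ 2 ∣ Nat.card G) {x : G} (hx : orderOf x = p)
    (hc : Nat.card (centralizer ({x} : Set G)) = c) (hk : (Nat.card G / c + 1) % p ≠ 0)
    (hr : ∀ i < p, i ≠ 0 → ∃ j < p, r ^ j % p = i) : ¬ IsConj x (x ^ r) := by
  intro h
  have h1 : ∀ j, IsConj x (x ^ r ^ j) := by
    intro j
    induction j with
    | zero => rw [pow_zero, pow_one]
    | succ j ih =>
      refine ih.trans ?_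
      rw [pow_succ', pow_mul]
      exact h.pow _
  have h3 : ∀ y : G, orderOf y = p ↔ IsConj x y := by
    intro y
    constructor
    · intro hy
      obtain ⟨k, hk1, -⟩ := exists_conj hp h2 hx hy
      obtain ⟨i, hi, hi0, h4⟩ := exists_lt hp hx ((orderOf_conj' y k).trans hy) hk1
      obtain ⟨j, -, hj⟩ := hr i hi hi0
      have h5 := h1 j
      rw [← pow_mod_orderOf, hx, hj, h4] at h5
      exact h5.trans (isConj_iff.2 ⟨k, rfl⟩ : IsConj y _).symm
    · intro hy
      obtain ⟨k, rfl⟩ := isConj_iff.1 hy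
      rw [orderOf_conj', hx]
  have h4 := dvd_card_order hp (hx ▸ orderOf_dvd_natCard x)
  have h5 := card_class x
  rw [hc] at h5
  rw [Nat.card_congr (Equiv.subtypeEquivRight h3),
    ← Nat.div_eq_of_eq_mul_left (hc ▸ Nat.card_pos) h5.symm] at h4
  exact hk (Nat.mod_eq_zero_of_dvd h4)

theorem conj_sq {x w : G} {p : ℕ} (hp : p.Prime) (hp2 : ¬ p ∣ 2) (hx : orderOf x = p) (hw : orderOf w = 3)
    (hxw : x * w = w * x) (h9 : ¬ 3 ^ 2 ∣ Nat.card (centralizer ({x} : Set G))) (hxx : IsConj x (x ^ 2))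
    (hn : ∀ c, c * w = w * c → c * x * c⁻¹ = x ^ 2 → IsConj (x * w) ((x * w) ^ 2)) : IsConj (x * w) ((x * w) ^ 2) := by
  obtain ⟨c, hc⟩ := isConj_iff.1 hxx
  have h1 := conj_comm c hxw
  rw [hc] at h1
  have h2 : x ∈ zpowers (x ^ 2) := mem_zpowers_pow_iff.2 (by
    rw [hx]
    exact ((Nat.Prime.coprime_iff_not_dvd hp).2 hp2).symm)
  have h3 : c * w * c⁻¹ ∈ centralizer ({x} : Set G) := by
    rw [← cent_eq_of_zpowers (Subgroup.pow_mem _ (Subgroup.mem_zpowers x) 2) h2]
    exact mem_centralizer_singleton_iff.2 h1.symm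
  have h4 : orderOf (c * w * c⁻¹) = 3 := (orderOf_conj' w c).trans hw
  obtain ⟨k, hk, h5, -⟩ := exists_conj_in Nat.prime_three h9 hw h4 (mem_centralizer_singleton_iff.2 hxw.symm) h3
  obtain ⟨i, hi, hi0, h6⟩ := exists_lt Nat.prime_three hw ((orderOf_conj' _ k).trans h4) h5
  have h7 : k * c * x * (k * c)⁻¹ = x ^ 2 := by
    have h8 : Commute k (x ^ 2) := (show Commute k x from mem_centralizer_singleton_iff.1 hk).pow_right 2
    calc k * c * x * (k * c)⁻¹ = k * (c * x * c⁻¹) * k⁻¹ := by group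
      _ = x ^ 2 := by rw [hc, h8.eq, mul_inv_cancel_right]
  have h8 : k * c * w * (k * c)⁻¹ = w ^ i := by rw [h6]; group
  obtain rfl | rfl : i = 1 ∨ i = 2 := by omega
  · exact hn (k * c) (mul_inv_eq_iff_eq_mul.1 (h8.trans (pow_one w))) h7
  · refine isConj_iff.2 ⟨k * c, ?_⟩
    rw [(show Commute x w from hxw).mul_pow, ← h7, ← h8]
    group

theorem not_in_cent {x w : G} {p c n : ℕ} (hp : p.Prime) (hx : orderOf x = p) (hxw : x * w = w * x)
    (hn : Nat.card (centralizer ({w} : Set G)) = n) (h2 : ¬ p ^ 2 ∣ n)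
    (hc : Nat.card ↥(centralizer ({x} : Set G) ⊓ centralizer ({w} : Set G)) = c) (hk : (n / c + 1) % p ≠ 0)
    (hr : ∀ i < p, i ≠ 0 → ∃ j < p, 2 ^ j % p = i) (k : G) (hkw : k * w = w * k) : k * x * k⁻¹ ≠ x ^ 2 := by
  intro h
  refine not_conj_prim (G := centralizer ({w} : Set G)) (x := ⟨x, mem_centralizer_singleton_iff.2 hxw⟩) (c := c) hp
    (by rw [hn]; exact h2) (by rw [Subgroup.orderOf_mk, hx]) (by rw [card_cent_sub, inf_comm]; exact hc)
    (by rw [hn]; exact hk) hr (isConj_iff.2 ⟨⟨k, mem_centralizer_singleton_iff.2 hkw⟩, Subtype.ext h⟩)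

end gen

theorem sig_87AB : ∃ g : MG, TyM 161 g ∧ IsConj g (g ^ 2) := by
  have := finite
  obtain ⟨w, hw, -, hc⟩ := exists_3A'
  obtain ⟨x, hxw, hx⟩ := exists_order_mem (H := centralizer ({w} : Set MG)) (p := 29) (by norm_num)
    (by rw [← cc, hc]; norm_num)
  have h1 := mem_centralizer_singleton_iff.1 hxw
  have h2 : ¬ 29 ^ 2 ∣ Nat.card MG := by rw [card_M]; norm_num
  refine ⟨x * w, ty_87AB hx h1 hw, conj_sq (by norm_num) (by norm_num) hx hw h1 (by rw [← cc, c29 x hx]; norm_num)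
    (H715.Mon.Norm.isConj_of (by norm_num) h2 (fun P hP => (H715.Mon.Norm.relIndex_eq (by norm_num) h2 c29 (by norm_num)
      (by rw [card_M]) hP).1) hx (by rw [orderOf_pow' _ (by norm_num), hx]; norm_num)) fun k h3 h4 => absurd h4 ?_⟩
  refine not_in_cent (c := 87) (by norm_num) hx h1 hc (by norm_num) ?_ (by norm_num) (by decide +kernel) k h3
  rw [← cc_mul (by norm_num) hx h1 hw (by norm_num)]
  exact (pr29.sec (by norm_num) (by norm_num) (by norm_num) c29 (by norm_num) hx hw h1).2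

theorem sig_39CD (hC : Cover) : ∃ g : MG, TyM 117 g ∧ IsConj g (g ^ 2) := by
  have := finite
  have : Fact (Nat.Prime 13) := ⟨by norm_num⟩
  obtain ⟨w, m, hw, -, hz, -⟩ := C3B.exists_mod'
  have hw' : orderOf (w : MG) = 3 := by rw [Subgroup.orderOf_coe, hw]
  have : Finite H920.Sz12.W := Nat.finite_of_card_ne_zero (by rw [H920.Sz12.card_W]; norm_num)
  obtain ⟨A, hA⟩ := exists_prime_orderOf_dvd_card' (G := H920.Sz12.W) 13 (by rw [H920.Sz12.card_W]; norm_num)
  have hA' : orderOf (A : C3B.GL12) = 13 := by rw [Subgroup.orderOf_coe, hA]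
  obtain ⟨k, hk, h1, h2⟩ := m.exists_lift A.2 (n := 13) (by decide) (by rw [← hA', pow_orderOf_eq_one])
  have hx : orderOf (k : MG) = 13 := by
    rw [Subgroup.orderOf_coe]
    refine orderOf_eq_prime h2 fun h => ?_
    rw [← h1, h, map_one, orderOf_one] at hA'
    omega
  have h3 : (k : MG) * zz = zz * k := by
    have h : (k : MG) * m.z = m.z * k := congrArg Subtype.val hk
    rwa [hz] at h
  have h4 : (k : MG) * w = w * k := mem_centralizer_singleton_iff.1 k.2
  have he := ev_of_comm h3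
  obtain ⟨h5, h6, h7⟩ := sec39 hC hx he hw' h4
  refine ⟨k * w, ty_pq sg_39CD (by norm_num) hx h4 hw' (by norm_num) (by norm_num) h6 (v13B hC hx he) h5,
    conj_sq (by norm_num) (by norm_num) hx hw' h4 (by rw [← cc, c13B hx he]; norm_num)
      (H657.M13.rat13 hx (by norm_num)) fun c h8 h9 => absurd h9 ?_⟩
  refine not_in_cent (c := 78) (by norm_num) hx h4 m.card_eq (by norm_num) ?_ (by norm_num) (by decide +kernel) c h8
  rw [← cc_mul (by norm_num) hx h4 hw' (by norm_num), h7]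

theorem conj31 (B : Base) {x : MG} (hx : orderOf x = 31) : IsConj x (x ^ 2) := by
  have := finite
  have h2 : ¬ 31 ^ 2 ∣ Nat.card MG := by rw [card_M]; norm_num
  have h1 := (H715.Mon.Norm.relIndex_eq (e := 15) (by norm_num) h2 (c31 B) (by norm_num) (by rw [card_M])
    (P := zpowers x) (by rw [Nat.card_zpowers, hx])).2
  obtain ⟨n, hn, ho⟩ := exists_order_mem (H := normalizer ((zpowers x : Subgroup MG) : Set MG)) (p := 5) (by norm_num)
    (by rw [h1]; norm_num)
  obtain ⟨i, hi, hi0, h3⟩ := exists_lt (by norm_num) hx ((orderOf_conj' x n).trans hx)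
    ((Subgroup.mem_normalizer_iff.1 hn x).1 (Subgroup.mem_zpowers x))
  have h4 : ∀ j, n ^ j * x * (n ^ j)⁻¹ = x ^ i ^ j := by
    intro j
    induction j with
    | zero => rw [pow_zero, pow_zero, pow_one, one_mul, inv_one, mul_one]
    | succ j ih =>
      calc n ^ (j + 1) * x * (n ^ (j + 1))⁻¹ = n * (n ^ j * x * (n ^ j)⁻¹) * n⁻¹ := by rw [pow_succ']; group
        _ = (n * x * n⁻¹) ^ i ^ j := by rw [ih, conj_pow]
        _ = x ^ i ^ (j + 1) := by rw [← h3, ← pow_mul, ← pow_succ']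
  have h5 : i ≠ 1 := by
    rintro rfl
    rw [pow_one] at h3
    have h6 := dvd_cent (mul_inv_eq_iff_eq_mul.1 h3.symm)
    rw [ho, ← cc, c31 B x hx] at h6
    norm_num at h6
  have h6 : i ^ 5 % 31 = 1 := by
    have h7 := h4 5
    rw [← ho, pow_orderOf_eq_one, one_mul, inv_one, mul_one, ho] at h7
    have h8 := pow_eq_pow_iff_modEq.1 ((pow_one x).trans h7)
    rw [hx] at h8
    exact h8.symm
  have h7 : ∀ i < 31, i ≠ 1 → i ^ 5 % 31 = 1 → ∃ j < 5, i ^ j % 31 = 2 := by decide +kernel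
  obtain ⟨j, -, hj⟩ := h7 i hi h5 h6
  refine isConj_iff.2 ⟨n ^ j, ?_⟩
  rw [h4, ← pow_mod_orderOf, hx, hj]

theorem sig_93AB (B : Base) : ∃ g : MG, TyM 164 g ∧ IsConj g (g ^ 2) := by
  have := finite
  obtain ⟨x, hx⟩ := exists_ord (p := 31) (by norm_num) (by norm_num)
  obtain ⟨w, hw, h1⟩ := pr31.exists hx
  refine ⟨x * w, ty_93AB B hx h1 hw, conj_sq (by norm_num) (by norm_num) hx hw h1 (by rw [← cc, c31 B x hx]; norm_num)
    (conj31 B hx) fun c h2 h3 => ?_⟩
  have h4 : Nat.card ↥(centralizer ({x} : Set MG) ⊓ centralizer ({w} : Set MG)) = 93 := by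
    rw [← cc_mul (by norm_num) hx h1 hw (by norm_num)]
    exact (pr31.sec (by norm_num) (by norm_num) (by norm_num) (c31 B) (by norm_num) hx hw h1).2
  obtain ⟨t, ht, ho⟩ := exists_order_mem (H := centralizer ({x} : Set MG)) (p := 2) (by norm_num)
    (by rw [← cc, c31 B x hx]; norm_num)
  have hw' : w ∈ centralizer ({x} : Set MG) ⊓ centralizer ({w} : Set MG) :=
    ⟨mem_centralizer_singleton_iff.2 h1.symm, mem_centralizer_singleton_iff.2 rfl⟩
  have h5 : ((centralizer ({x} : Set MG) ⊓ centralizer ({w} : Set MG)).subgroupOf (centralizer ({x} : Set MG))).index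
      = 2 := by
    have h6 := ((centralizer ({x} : Set MG) ⊓ centralizer ({w} : Set MG)).subgroupOf
      (centralizer ({x} : Set MG))).card_mul_index
    rw [Nat.card_congr (Subgroup.subgroupOfEquivOfLe inf_le_left).toEquiv, h4, ← cc, c31 B x hx] at h6
    omega
  have h6 : t * w * t⁻¹ ∈ centralizer ({x} : Set MG) ⊓ centralizer ({w} : Set MG) :=
    (Subgroup.normal_of_index_eq_two h5).conj_mem ⟨w, hw'.1⟩ hw' ⟨t, ht⟩
  have h7 : orderOf (t * w * t⁻¹) = 3 := (orderOf_conj' w t).trans hw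
  obtain ⟨k, hk, h8, -⟩ := exists_conj_in Nat.prime_three (by rw [h4]; norm_num) hw h7 hw' h6
  obtain ⟨i, hi, hi0, h9⟩ := exists_lt Nat.prime_three hw ((orderOf_conj' _ k).trans h7) h8
  have h10 : t * w * t⁻¹ = w ^ i := by
    have h11 : Commute k (w ^ i) := (show Commute k w from mem_centralizer_singleton_iff.1 hk.2).pow_right i
    calc t * w * t⁻¹ = k⁻¹ * (k * (t * w * t⁻¹) * k⁻¹) * k := by group
      _ = w ^ i := by rw [← h9, mul_assoc, ← h11.eq, inv_mul_cancel_left]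
  obtain rfl | rfl : i = 1 ∨ i = 2 := by omega
  · exfalso
    have h11 := dvd_of_mem (H := centralizer ({x} : Set MG) ⊓ centralizer ({w} : Set MG))
      ⟨ht, mem_centralizer_singleton_iff.2 (mul_inv_eq_iff_eq_mul.1 (h10.trans (pow_one w)))⟩
    rw [ho, h4] at h11
    norm_num at h11
  · refine isConj_iff.2 ⟨t * c, ?_⟩
    have h11 : Commute t (x ^ 2) := (show Commute t x from mem_centralizer_singleton_iff.1 ht).pow_right 2
    calc t * c * (x * w) * (t * c)⁻¹ = t * (c * x * c⁻¹) * (c * w * c⁻¹) * t⁻¹ := by group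
      _ = x ^ 2 * (t * w * t⁻¹) := by rw [h3, h2, h11.eq]; group
      _ = (x * w) ^ 2 := by rw [h10, (show Commute x w from h1).mul_pow]

end Cfsg.Agent.TAB.Big
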