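import Cfsg.Agent.TAB.Big.Tool
import Cfsg.Agent.H241.Deg.MonFinal
import Cfsg.Agent.H58.Cop.MSc
import Cfsg.Agent.H436.MonLoc
import Cfsg.Agent.H715.Mon.Inf

/-!
# The boxes of the primes 29, 31, 41, 47, 59, 71 (helper58, TAB)
-/

set_option autoImplicit false
set_option maxRecDepth 100000

namespace Cfsg.Agent.TAB.Big

open Cfsg Cfsg.Agent.TAB.Eng Cfsg.Agent.TAB.M Cfsg.Agent.TAB.M7 Cfsg.Agent.BpSpor.MBigModel
open Cfsg.Agent.LThreeB.Row (TA)
open Cfsg.Agent.H940.Eng (Base)
open Cfsg.Agent.H715.Mon.Grp (sThree)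
open Subgroup (centralizer zpowers mem_centralizer_singleton_iff)

theorem known (B : Base) : H995.CopEngine.AllKnown.{0} := fun S _ _ h => B.known S h

theorem c71 (B : Base) (x : MG) (hx : orderOf x = 71) : cc x = 71 := (H241.Deg.Mon.norm71 B hx).1

theorem c59 (B : Base) (x : MG) (hx : orderOf x = 59) : cc x = 59 := (H58.Cop.M.norm_fiftynine (known B) hx).1

theorem c41 (B : Base) (x : MG) (hx : orderOf x = 41) : cc x = 41 := H241.Deg.Mon.card41 B hx

theorem c47 (B : Base) (x : MG) (hx : orderOf x = 47) : cc x = 94 := H436.MonLoc.card47 (known B) hx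

theorem c29 (x : MG) (hx : orderOf x = 29) : cc x = 87 := H626.LD.TwentyNine.card_cent hx

theorem c31 (B : Base) (x : MG) (hx : orderOf x = 31) : cc x = 186 := H715.Mon.Cent.card31 (sThree B) hx

theorem cen47 (B : Base) (g : MG) (hg : orderOf g = 47) : ¬ 4 ∣ Nat.card (centralizer ({g} : Set MG)) := by
  rw [← cc, c47 B g hg]
  norm_num

theorem v71 (B : Base) {x : MG} (hx : orderOf x = 71) : ch x = 1 := by
  have h1 := ch_prime (by norm_num) hx
  have h2 := ch_abs 8 (c71 B x hx).le (by norm_num)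
  omega

theorem v59 (B : Base) {x : MG} (hx : orderOf x = 59) : ch x = 1 := by
  have h1 := ch_prime (by norm_num) hx
  have h2 := ch_abs 8 (c59 B x hx).le (by norm_num)
  omega

theorem v41 (B : Base) {x : MG} (hx : orderOf x = 41) : ch x = 2 := by
  have h1 := ch_prime (by norm_num) hx
  have h2 := ch_abs 8 (c41 B x hx).le (by norm_num)
  omega

theorem v47 (B : Base) {x : MG} (hx : orderOf x = 47) : ch x = 1 := by
  have h1 := ch_prime (by norm_num) hx
  have h2 := ch_abs 9 (c47 B x hx).le (by norm_num)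
  omega

theorem v29 {x : MG} (hx : orderOf x = 29) : ch x = 3 := by
  have h1 := ch_prime (by norm_num) hx
  have h2 := ch_abs 9 (c29 x hx).le (by norm_num)
  omega

theorem v31 (B : Base) {x : MG} (hx : orderOf x = 31) : ch x = 3 := by
  have h1 := ch_prime (by norm_num) hx
  have h2 := ch_abs 13 (c31 B x hx).le (by norm_num)
  omega

theorem box_71AB (B : Base) : BoxM 155 :=
  box_one (cardX (k := 2) (by norm_num) (by norm_num) (c71 B) (by decide +kernel))
    (fun _ hg => ty_one sg_71AB hg (v71 B hg)) (by rw [cnt_71AB]; decide +kernel)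

theorem box_59AB (B : Base) : BoxM 141 :=
  box_one (cardX (k := 2) (by norm_num) (by norm_num) (c59 B) (by decide +kernel))
    (fun _ hg => ty_one sg_59AB hg (v59 B hg)) (by rw [cnt_59AB]; decide +kernel)

theorem boxC_41A (B : Base) : BoxCM 121 := by
  obtain ⟨x, hx⟩ := exists_ord (p := 41) (by norm_num) (by norm_num)
  exact boxC_of (ty_one sg_41A hx (v41 B hx)) (c41 B x hx).le (by rw [cnt_41A])

theorem box_41A (B : Base) : BoxM 121 := (boxC_41A B).box

/-! ### 47 -/

theorem X47 (B : Base) : NM / 94 * 2 ≤ Nat.card {g : MG // orderOf g = 47} :=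
  cardX (by norm_num) (by norm_num) (c47 B) (by decide +kernel)

theorem box_47AB (B : Base) : BoxM 130 :=
  box_one (X47 B) (fun _ hg => ty_one sg_47AB hg (v47 B hg)) (by rw [cnt_47AB]; decide +kernel)

theorem ty_94AB (B : Base) {x t : MG} (hx : orderOf x = 47) (hxt : x * t = t * x) (ht : TA t) : TyM 165 (x * t) := by
  have h0 := ord_ta ht
  refine ty_pq sg_94AB (by norm_num) hx hxt h0 (by norm_num) (by norm_num) ?_ (v47 B hx) (ch_ta ht)
  have h1 := cong (by norm_num) hx hxt (by rw [h0]; norm_num)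
  have h2 := ch_abs 9 ((cc_le (by norm_num) hx hxt h0 (by norm_num)).trans (c47 B x hx).le) (by norm_num)
  rw [ch_ta ht] at h1
  omega

theorem box_94AB (B : Base) : BoxM 165 := by
  have := finite
  refine box_fib (p := 47) (m := 2) (n := 1) (by norm_num) (X47 B) (fun _ h => h) (fun _ h => ord_ta h) (fun x hx => ?_)
    (fun _ _ hx hxt ht => ty_94AB B hx hxt ht) (by rw [cnt_94AB]; decide +kernel)
  obtain ⟨t, ht, hxt⟩ := exists_ta (by norm_num) (by norm_num) (by norm_num) hx
  exact cnt_ta ht hxt (d := 94) ((Subgroup.card_le_of_le inf_le_left).trans (c47 B x hx).le) (by rw [c47 B x hx])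

/-! ### 29 -/

theorem X29 : NM / 87 * 1 ≤ Nat.card {g : MG // orderOf g = 29} :=
  cardX (by norm_num) (by norm_num) c29 (by decide +kernel)

theorem boxC_29A : BoxCM 94 := by
  obtain ⟨x, hx⟩ := exists_ord (p := 29) (by norm_num) (by norm_num)
  exact boxC_of (ty_one sg_29A hx (v29 hx)) (c29 x hx).le (by rw [cnt_29A])

theorem box_29A : BoxM 94 := boxC_29A.box

theorem pr29 : Pr 29 3 783 := by
  obtain ⟨v, hv, -, hd, ⟨e⟩⟩ := exists_3A
  exact pr_of (by norm_num) (by norm_num) (by norm_num) (by norm_num) hv hd e H241.Mon.fi29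

theorem ty_87AB {x y : MG} (hx : orderOf x = 29) (hxy : x * y = y * x) (hy : orderOf y = 3) : TyM 161 (x * y) := by
  obtain ⟨h3, h4⟩ := pr29.sec (by norm_num) (by norm_num) (by norm_num) c29 (by norm_num) hx hy hxy
  refine ty_pq sg_87AB (by norm_num) hx hxy hy (by norm_num) (by norm_num) ?_ (v29 hx) h3
  have h1 := cong (by norm_num) hx hxy (by rw [hy]; norm_num)
  have h2 := ch_abs 9 h4.le (by norm_num)
  rw [h3] at h1
  omega

theorem box_87AB : BoxM 161 :=
  box_fib (p := 29) (m := 3) (by norm_num) X29 (fun _ h => h) (fun _ h => h)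
    (fun _ hx => pr29.cnt (k := 2) (by norm_num) (by norm_num) (by norm_num) c29 (by norm_num) (by norm_num)
      (by decide +kernel) hx) (fun _ _ hx hxy hy => ty_87AB hx hxy hy) (by rw [cnt_87AB]; decide +kernel)

/-! ### 31 -/

theorem X31 (B : Base) : NM / 186 * 2 ≤ Nat.card {g : MG // orderOf g = 31} :=
  cardX (by norm_num) (by norm_num) (c31 B) (by decide +kernel)

theorem box_31AB (B : Base) : BoxM 102 :=
  box_one (X31 B) (fun _ hg => ty_one sg_31AB hg (v31 B hg)) (by rw [cnt_31AB]; decide +kernel)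

theorem ty_62AB (B : Base) {x t : MG} (hx : orderOf x = 31) (hxt : x * t = t * x) (ht : TA t) : TyM 148 (x * t) := by
  have h0 := ord_ta ht
  refine ty_pq sg_62AB (by norm_num) hx hxt h0 (by norm_num) (by norm_num) ?_ (v31 B hx) (ch_ta ht)
  have h1 := cong (by norm_num) hx hxt (by rw [h0]; norm_num)
  have h2 := ch_abs 13 ((cc_le (by norm_num) hx hxt h0 (by norm_num)).trans (c31 B x hx).le) (by norm_num)
  rw [ch_ta ht] at h1
  omega

theorem box_62AB (B : Base) : BoxM 148 := by
  refine box_fib (p := 31) (m := 2) (n := 3) (by norm_num) (X31 B) (fun _ h => h) (fun _ h => ord_ta h) (fun x hx => ?_)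
    (fun _ _ hx hxt ht => ty_62AB B hx hxt ht) (by rw [cnt_62AB]; decide +kernel)
  obtain ⟨t, ht, hxt⟩ := exists_ta (by norm_num) (by norm_num) (by norm_num) hx
  exact cnt_ta ht hxt (H715.Mon.Inf.inf31 (sThree B) hx (ord_ta ht) hxt.symm).le (by rw [c31 B x hx])

theorem finTh : Finite Spor.Th := Nat.finite_of_card_ne_zero (by rw [S1700.result.2]; norm_num)

theorem pr31 : Pr 31 3 0 := by
  have := finTh
  obtain ⟨v, hv, -, hd, ⟨e⟩⟩ := exists_3C
  exact pr_of (by norm_num) (by norm_num) (by norm_num) (by norm_num) hv hd e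
    (H715.Mon.Cent.self_of_card (by norm_num) (by rw [S1700.result.2]; norm_num)
      fun y hy => H491.PB.Th.card_thirtyone hy)

theorem ty_93AB (B : Base) {x y : MG} (hx : orderOf x = 31) (hxy : x * y = y * x) (hy : orderOf y = 3) :
    TyM 164 (x * y) := by
  obtain ⟨h3, h4⟩ := pr31.sec (by norm_num) (by norm_num) (by norm_num) (c31 B) (by norm_num) hx hy hxy
  refine ty_pq sg_93AB (by norm_num) hx hxy hy (by norm_num) (by norm_num) ?_ (v31 B hx) h3
  have h1 := cong (by norm_num) hx hxy (by rw [hy]; norm_num)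
  have h2 := ch_abs 9 h4.le (by norm_num)
  rw [h3] at h1
  omega

theorem box_93AB (B : Base) : BoxM 164 :=
  box_fib (p := 31) (m := 3) (by norm_num) (X31 B) (fun _ h => h) (fun _ h => h)
    (fun _ hx => pr31.cnt (k := 1) (by norm_num) (by norm_num) (by norm_num) (c31 B) (by norm_num) (by norm_num)
      (by decide +kernel) hx) (fun _ _ hx hxy hy => ty_93AB B hx hxy hy) (by rw [cnt_93AB]; decide +kernel)

end Cfsg.Agent.TAB.Big
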