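import Cfsg.Agent.TAB.Big.Eleven
import Cfsg.Agent.H657.M13.Card
import Cfsg.Agent.H599.M23.L33

/-!
# The boxes of the prime 13 (helper58, TAB)
-/

set_option autoImplicit false
set_option maxRecDepth 100000

namespace Cfsg.Agent.TAB.Big

open Cfsg Cfsg.Agent.TAB.Eng Cfsg.Agent.TAB.M Cfsg.Agent.TAB.M7 Cfsg.Agent.BpSpor.MBigModel
open Cfsg.Agent.TAB.C2B (Cover CountC)
open Cfsg.Agent.LThreeB.Row (TA)
open Cfsg.Agent.H199.NSmMon (Ev)
open Cfsg.Agent.H657.M13 (Fct)
open Subgroup (centralizer zpowers mem_centralizer_singleton_iff)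

theorem ch_twist' {x w : MG} {p d : ℕ} (hp : p.Prime) (hx : orderOf x = p) (hxw : x * w = w * x) (hw : ¬ p ∣ orderOf w)
    (hd : Nat.Coprime d (orderOf w)) : ch (x * w ^ d) = ch (x * w) := by
  have := finite
  have hc := cop_of hp hw
  obtain ⟨k, h1, h2⟩ := Nat.chineseRemainder hc 1 d
  have h3 : (x * w) ^ k = x * w ^ d := by
    rw [(show Commute x w from hxw).mul_pow, pow_eq_pow_iff_modEq.2 (hx.symm ▸ h1), pow_eq_pow_iff_modEq.2 h2, pow_one]
  rw [← h3]
  apply ch_gal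
  rw [order_mul hxw hx rfl hc]
  refine Nat.Coprime.mul_right ?_ ?_
  · rw [Nat.coprime_iff_gcd_eq_one, h1.gcd_eq]
    exact Nat.gcd_one_left _
  · rw [Nat.coprime_iff_gcd_eq_one, h2.gcd_eq]
    exact hd

/-- the Sylow `q`-subgroups of `C(y)` have order `q` -/
theorem sec_gen {y v w : MG} {q : ℕ} (hq : q.Prime) (h2 : ¬ q ^ 2 ∣ cc y) (hy : ¬ q ∣ orderOf y) (hv : orderOf v = q)
    (hw : orderOf w = q) (hyv : y * v = v * y) (hyw : y * w = w * y) :
    ch w = ch v ∧ ch (y * w) = ch (y * v) ∧ cc (y * w) = cc (y * v) := by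
  have := finite
  obtain ⟨k, hk, h3, h4⟩ := exists_conj_in (H := centralizer ({y} : Set MG)) hq h2 hv hw
    (mem_centralizer_singleton_iff.2 hyv.symm) (mem_centralizer_singleton_iff.2 hyw.symm)
  have hkw : orderOf (k * w * k⁻¹) = q := by rw [orderOf_conj', hw]
  have hky : k * y * k⁻¹ = y := by rw [mem_centralizer_singleton_iff.1 hk, mul_inv_cancel_right]
  have h5 : k * (y * w) * k⁻¹ = y * (k * w * k⁻¹) := by
    conv_rhs => rw [← hky]
    group
  have h6 : y * (k * w * k⁻¹) = (k * w * k⁻¹) * y := by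
    have h7 := conj_comm k hyw
    rwa [hky] at h7
  refine ⟨by rw [← ch_conj k, ch_of_zpowers h3 (hkw.trans hv.symm)], ?_, ?_⟩
  · obtain ⟨i, hi⟩ := (mem_powers_iff_mem_zpowers.2 h3 : _ ∈ Submonoid.powers v)
    have hi' : v ^ i = k * w * k⁻¹ := hi
    have h7 : ¬ q ∣ i := by
      rintro ⟨j, rfl⟩
      rw [pow_mul, ← hv, pow_orderOf_eq_one, one_pow] at hi'
      rw [← hi', orderOf_one] at hkw
      exact hq.one_lt.ne hkw
    rw [← ch_conj k, h5, h6, ← hi', ch_twist hq hv hyv.symm hy h7, hyv]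
  · rw [cc, ← card_cent_conj k, h5, cent_mul h6 (by rw [hkw]; exact (cop_of hq hy).symm), cent_eq_of_zpowers h3 h4, cc,
      cent_mul hyv (by rw [hv]; exact (cop_of hq hy).symm)]

/-- commuting elements of order 3 and of the class `2A` -/
theorem three_ta (hC : Cover) (hN : CountC) {t v : MG} (hv : orderOf v = 3) (hta : TA t) (htv : t * v = v * t) :
    ch v ≠ 0 := by
  intro hd
  have ht := ord_ta hta
  have ht2 : t ^ 2 = 1 := by rw [← ht, pow_orderOf_eq_one]
  have hc : Commute t v := htv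
  have e2 : (t * v) ^ 2 = v ^ 2 := by rw [hc.mul_pow, ht2, one_mul]
  have e3 : (t * v) ^ 3 = t := by
    rw [hc.mul_pow, ← hv, pow_orderOf_eq_one, mul_one, hv, pow_succ, ht2, one_mul]
  have he := ev_three_mul hC hN hv (ev_three_of hv ht htv) (by omega) htv (n := 1) ht2
  rw [← htv] at he
  obtain ⟨l, hl, H⟩ := ev_vals hC he (order_mul htv ht hv (by norm_num)) vals6
  have h1 : ch (v ^ 2) = 0 := by rw [ch_gal (by rw [hv]; norm_num), hd]
  have h2 := ch_ta hta
  simp only [List.mem_cons, List.not_mem_nil, or_false] at hl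
  rcases hl with rfl | rfl | rfl | rfl | rfl | rfl <;>
    simp only [List.forall_mem_cons, List.not_mem_nil, false_imp_iff, implies_true, and_true, pow_one, e2, e3] at H <;>
    omega

theorem vals8 : vals 8 = [[(1, -4), (2, 20), (4, 276)], [(1, 0), (2, -12), (4, 276)], [(1, 0), (2, 52), (4, 4372)],
    [(1, 4), (2, 20), (4, 276)], [(1, 12), (2, 276), (4, 276)], [(1, 36), (2, 20), (4, 276)]] := by decide +kernel

/-- an element of order 8 whose fourth power is in `2A` -/
theorem ch_eight (hC : Cover) {y : MG} (hy : orderOf y = 8) (h : ch (y ^ 4) = 4372) : ch y = 0 := by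
  obtain ⟨l, hl, H⟩ := ev_vals hC (ev_of_two (n := 3)
    (by rw [show 2 ^ 3 = 8 from rfl, ← hy]; exact pow_orderOf_eq_one y)) hy vals8
  simp only [List.mem_cons, List.not_mem_nil, or_false] at hl
  rcases hl with rfl | rfl | rfl | rfl | rfl | rfl <;>
    simp only [List.forall_mem_cons, List.not_mem_nil, false_imp_iff, implies_true, and_true, pow_one] at H <;> omega

/-! ### The class `13B` -/

theorem exists_fct : ∃ (a x t : MG) (L R : Subgroup MG), TA t ∧ Fct a x t L R := by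
  have h1 : TA _ := M4.ta_of_ty M4.ty_2A
  obtain ⟨a, x, L, R, F⟩ := H657.M13.facts h1
  exact ⟨a, x, _, L, R, h1, F⟩

section fct

variable {a x t : MG} {L R : Subgroup MG}

theorem ta_of_fct (ht : TA t) (F : Fct a x t L R) {u : MG} (hu : orderOf u = 2) (h : a * u = u * a) : TA u :=
  IsConj.trans ht (F.iv u hu h.symm)

theorem not_ev (ht : TA t) (F : Fct a x t L R) : ¬ Ev a := by
  rintro ⟨c, hc⟩
  have h0 : IsConj zz (c * zz * c⁻¹) := isConj_iff.2 ⟨c, rfl⟩
  have h1 := ch_ta (ta_of_fct ht F (ord_z h0) hc.symm)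
  rw [ch_conj, Big.ch_zz] at h1
  omega

theorem ev_isConj {g h : MG} (e : IsConj g h) (he : Ev g) : Ev h := by
  obtain ⟨c, rfl⟩ := isConj_iff.1 e
  exact he.conj c

theorem conj_x (ht : TA t) (F : Fct a x t L R) {y : MG} (hy : orderOf y = 13) (he : Ev y) : IsConj x y := by
  rcases F.cl y hy with h | h
  · exact absurd (ev_isConj h.symm he) (not_ev ht F)
  · exact h

theorem ev_x (ht : TA t) (F : Fct a x t L R) : Ev x := by
  obtain ⟨y, hy, ho⟩ := @exists_order_mem MG _ finite (centralizer ({zz} : Set MG)) 13 (by norm_num)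
    (by rw [card_cent_z]; norm_num)
  have he := ev_of_comm (mem_centralizer_singleton_iff.1 hy)
  exact ev_isConj (conj_x ht F ho he).symm he

end fct

theorem c13B {y : MG} (hy : orderOf y = 13) (he : Ev y) : cc y = 52728 := by
  obtain ⟨a, x, t, L, R, ht, F⟩ := exists_fct
  rw [cc, card_cent_isConj (conj_x ht F hy he), F.cx]

theorem vals13 : vals 13 = [[(1, -1)]] := by decide +kernel

theorem vals39 : vals 39 = [[(1, 2), (3, -1), (13, 54)]] := by decide +kernel

theorem vals78 : vals 78 = [[(1, 0), (2, 2), (3, 3), (6, -1), (13, 78), (26, 54), (39, 276)]] := by decide +kernel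

theorem vals156 : vals 156 = [] := by decide +kernel

theorem v13B (hC : Cover) {y : MG} (hy : orderOf y = 13) (he : Ev y) : ch y = -1 := by
  obtain ⟨l, hl, H⟩ := ev_vals hC he hy vals13
  rw [List.mem_singleton.1 hl] at H
  have h := H _ List.mem_cons_self
  rwa [pow_one] at h

theorem boxC_13B (hC : Cover) : BoxCM 45 := by
  obtain ⟨a, x, t, L, R, ht, F⟩ := exists_fct
  exact boxC_of (ty_one sg_13B F.ox (v13B hC F.ox (ev_x ht F))) F.cx.le (by rw [cnt_13B])

/-- the average over a four-group -/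
theorem ch_avg_four {z t g : MG} (hz : z * z = 1) (ht : t * t = 1) (hz1 : z ≠ 1) (ht1 : t ≠ 1) (htz : t ≠ z)
    (hc : Commute t z) (hgz : Commute g z) (hgt : Commute g t) :
    4 ∣ ch g + (ch (g * z) + (ch (g * t) + ch (g * (t * z)))) := by
  classical
  have := finite
  have hzi : z⁻¹ = z := inv_eq_of_mul_eq_one_right hz
  have hti : t⁻¹ = t := inv_eq_of_mul_eq_one_right ht
  have e1 : z * t = t * z := hc.eq.symm
  have e2 : z * (t * z) = t := by rw [← e1, ← mul_assoc, hz, one_mul]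
  have e3 : t * (t * z) = z := by rw [← mul_assoc, ht, one_mul]
  have e4 : t * z * z = t := by rw [mul_assoc, hz, mul_one]
  have e5 : t * z * t = z := by rw [mul_assoc, e1, e3]
  have e6 : t * z * (t * z) = 1 := by rw [mul_assoc, e2, ht]
  let R : Subgroup MG :=
    { carrier := {x | x ∈ ({1, z, t, t * z} : Finset MG)}
      one_mem' := by simp
      mul_mem' := by
        intro x y hx hy
        simp only [Set.mem_ofPred_eq, Finset.mem_insert, Finset.mem_singleton] at hx hy ⊢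
        rcases hx with rfl | rfl | rfl | rfl <;> rcases hy with rfl | rfl | rfl | rfl <;>
          simp only [one_mul, mul_one, hz, ht, e1, e2, e3, e4, e5, e6, true_or, or_true]
      inv_mem' := by
        intro x hx
        simp only [Set.mem_ofPred_eq, Finset.mem_insert, Finset.mem_singleton] at hx ⊢
        rcases hx with rfl | rfl | rfl | rfl <;>
          simp only [inv_one, mul_inv_rev, hzi, hti, e1, true_or, or_true] }
  have hmem : ∀ x, x ∈ ({1, z, t, t * z} : Finset MG) ↔ x ∈ R := fun x => Iff.rfl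
  have n1 : t * z ≠ 1 := fun h => htz (by rw [← e4, h, one_mul])
  have m1 : (1 : MG) ∉ ({z, t, t * z} : Finset MG) := by simp [hz1.symm, ht1.symm, n1.symm]
  have m2 : z ∉ ({t, t * z} : Finset MG) := by simp [htz.symm, ht1]
  have m3 : t ∉ ({t * z} : Finset MG) := by simp [hz1]
  have hcard : Nat.card R = 4 := by
    rw [Nat.subtype_card _ hmem, Finset.card_insert_of_notMem m1, Finset.card_insert_of_notMem m2,
      Finset.card_insert_of_notMem m3, Finset.card_singleton]
  have : Fintype R := Fintype.ofFinite _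
  have h1 := ch_avg R g fun a ha => by
    rw [← hmem] at ha
    simp only [Finset.mem_insert, Finset.mem_singleton] at ha
    rcases ha with rfl | rfl | rfl | rfl
    · exact Commute.one_right g
    · exact hgz
    · exact hgt
    · exact hgt.mul_right hgz
  rwa [← Finset.sum_subtype _ hmem (fun a => ch (g * a)), Finset.sum_insert m1, Finset.sum_insert m2,
    Finset.sum_insert m3, Finset.sum_singleton, hcard, mul_one] at h1

/-- an element of order 39 in `C(z)` -/
theorem cen39 (hC : Cover) {g : MG} (hg : orderOf g = 39) (hz : g * zz = zz * g) : ¬ 4 ∣ cc g := by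
  classical
  have := finite
  have : Fact (Nat.Prime 2) := ⟨Nat.prime_two⟩
  intro h4
  have hz2 : orderOf zz = 2 := ord_z (IsConj.refl _)
  have h1 := CpAutCo3.MTw.sq_dvd (p := 2) (G := centralizer ({g} : Set MG)) h4
    (x := ⟨zz, mem_centralizer_singleton_iff.2 hz.symm⟩)
    (IsPGroup.of_card (n := 1) (by rw [Nat.card_zpowers, Subgroup.orderOf_mk, hz2, pow_one]))
  rw [card_cent_sub] at h1
  obtain ⟨K, hK⟩ := Sylow.exists_subgroup_card_pow_prime 2 h1
  have h2 : ∃ q : K, (q.1 : MG) ≠ 1 ∧ (q.1 : MG) ≠ zz := by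
    by_contra h3
    push Not at h3
    have h5 : Nat.card K ≤ Nat.card Bool := Nat.card_le_card_of_injective (fun q => decide ((q.1 : MG) = 1)) (by
      intro q q' hq
      apply Subtype.ext
      apply Subtype.ext
      by_cases h6 : (q.1 : MG) = 1
      · have h7 : (q'.1 : MG) = 1 := by simpa [h6] using hq
        rw [h6, h7]
      · have h7 : (q'.1 : MG) ≠ 1 := by simpa [h6] using hq
        rw [h3 q h6, h3 q' h7])
    rw [hK, Nat.card_eq_fintype_card, Fintype.card_bool] at h5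
    norm_num at h5
  obtain ⟨q, hq1, hqz⟩ := h2
  have h5 : (q.1 : MG) ^ 4 = 1 := by
    have h6 : q ^ 4 = 1 := by
      have h7 := pow_card_eq_one' (x := q)
      rwa [hK] at h7
    exact congrArg (fun u : K => (u.1 : MG)) h6
  have hqg : Commute (q.1 : MG) g := mem_centralizer_singleton_iff.1 q.1.2.1
  have hqz' : Commute (q.1 : MG) zz := mem_centralizer_singleton_iff.1 q.1.2.2
  generalize (q.1 : MG) = u at hq1 hqz h5 hqg hqz'
  have hgz : Commute g zz := hz
  by_cases h6 : u ^ 2 = 1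
  · have key : ∀ s : MG, s ≠ 1 → s ^ 2 = 1 → Commute s g → Commute s zz → ch (g * s) = 0 := by
      intro s h7 h8 h9 h10
      obtain ⟨l, hl, H⟩ := ev_vals hC (ev_of_comm (hgz.mul_left h10).eq)
        (order_mul h9.eq.symm hg (orderOf_eq_prime h8 h7) (by norm_num)) vals78
      rw [List.mem_singleton.1 hl] at H
      have h := H _ List.mem_cons_self
      rwa [pow_one] at h
    have hz3 : zz ^ 2 = 1 := by rw [← hz2, pow_orderOf_eq_one]
    have hz1 : zz ≠ 1 := by
      intro h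
      rw [h, orderOf_one] at hz2
      omega
    have k1 := key u hq1 h6 hqg hqz'
    have k2 := key zz hz1 hz3 hgz.symm (Commute.refl _)
    have k3 := key (u * zz) (fun h => hqz (by
      rw [← mul_one u, ← hz3, pow_two, ← mul_assoc, h, one_mul])) (by rw [hqz'.mul_pow, h6, hz3, one_mul])
      (hqg.mul_left hgz.symm) (hqz'.mul_left (Commute.refl _))
    obtain ⟨l, hl, H⟩ := ev_vals hC (ev_of_comm hz) hg vals39
    rw [List.mem_singleton.1 hl] at H
    have k0 := H _ List.mem_cons_self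
    rw [pow_one] at k0
    have k4 := ch_avg_four (by rw [← pow_two, hz3]) (by rw [← pow_two, h6]) hz1 hq1 hqz hqz' hgz hqg.symm
    rw [k0, k1, k2, k3] at k4
    norm_num at k4
  · have h7 : orderOf u = 4 := orderOf_eq_prime_pow (p := 2) (n := 1) h6 h5
    obtain ⟨l, hl, -⟩ := ev_vals hC (ev_of_comm (hgz.mul_left hqz').eq) (order_mul hqg.eq.symm hg h7 (by norm_num)) vals156
    exact absurd hl List.not_mem_nil

theorem base39 (hC : Cover) {y : MG} (hy : orderOf y = 13) (hz : y * zz = zz * y) :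
    ∃ v : MG, orderOf v = 3 ∧ y * v = v * y ∧ ch v = 54 ∧ ch (y * v) = 2 ∧ cc (y * v) = 78 := by
  have := finite
  obtain ⟨v, hv, ho⟩ := exists_order_mem (H := centralizer ({y} : Set MG) ⊓ centralizer ({zz} : Set MG)) (p := 3)
    (by norm_num) (by
      have h1 : Nat.card ↥(centralizer ({y} : Set MG) ⊓ centralizer ({zz} : Set MG)) = 312 :=
        H792.M23.Z13.card_cz hy hz.symm
      rw [h1]; norm_num)
  have hyv : Commute y v := (mem_centralizer_singleton_iff.1 hv.1).symm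
  have hvz : Commute v zz := mem_centralizer_singleton_iff.1 hv.2
  have hgz : Commute (y * v) zz := (show Commute y zz from hz).mul_left hvz
  have hg : orderOf (y * v) = 39 := order_mul hyv.eq hy ho (by norm_num)
  obtain ⟨l, hl, H⟩ := ev_vals hC (ev_of_comm hgz.eq) hg vals39
  rw [List.mem_singleton.1 hl] at H
  have k0 := H (1, 2) (by decide)
  have k1 := H (13, 54) (by decide)
  have k2 := pw_out (by norm_num) hy hyv.eq (by rw [ho]; norm_num) 1
  rw [pow_one] at k0 k2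
  have h54 : ch v = 54 := k2.symm.trans k1
  refine ⟨v, ho, hyv.eq, h54, k0, ?_⟩
  have h1 := cen39 hC hg hgz.eq
  have h2 : 78 ∣ cc (y * v) := by
    have h3 := dvd_cent (a := y * v * zz) (b := y * v) ((Commute.refl _).mul_left hgz.symm).eq
    rwa [order_mul hgz.eq hg (ord_z (IsConj.refl _)) (by norm_num)] at h3
  have h3 : cc (y * v) ∣ 52728 := by
    rw [← c13B hy (ev_of_comm hz), cc_mul (by norm_num) hy hyv.eq ho (by norm_num)]
    exact Subgroup.card_dvd_of_le inf_le_left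
  have h4 : ¬ 169 ∣ cc (y * v) := by
    intro h5
    have h6 : 169 ∣ cc v := by
      refine h5.trans ?_
      rw [cc_mul (by norm_num) hy hyv.eq ho (by norm_num)]
      exact Subgroup.card_dvd_of_le inf_le_right
    rcases three_ev ho (ev_of_comm hvz.eq) with h | h | h
    · have h7 := h6.trans h.2
      norm_num at h7
    · rw [h] at h6
      norm_num at h6
    · rw [h.2] at h6
      norm_num at h6
  obtain ⟨k, hk⟩ := h2
  rw [hk] at h1 h3 h4 ⊢
  have h5 : k ∣ 676 := Nat.dvd_of_mul_dvd_mul_left (by norm_num : 0 < 78) h3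
  have h6 : ¬ 2 ∣ k := fun h => h1 (Nat.mul_dvd_mul (by norm_num : 2 ∣ 78) h)
  have h7 : ¬ 13 ∣ k := fun h => h4 (Nat.mul_dvd_mul (by norm_num : 13 ∣ 78) h)
  have h8 : Nat.Coprime k 676 := by
    rw [show 676 = 2 ^ 2 * 13 ^ 2 from rfl]
    exact Nat.Coprime.mul_right ((cop_of (by norm_num) h6).symm.pow_right 2) ((cop_of (by norm_num) h7).symm.pow_right 2)
  rw [Nat.Coprime.eq_one_of_dvd h8 h5]

theorem sec39 (hC : Cover) {y w : MG} (hy : orderOf y = 13) (he : Ev y) (hw : orderOf w = 3) (hyw : y * w = w * y) :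
    ch w = 54 ∧ ch (y * w) = 2 ∧ cc (y * w) = 78 := by
  obtain ⟨c, hc⟩ := ev_iff.1 he
  have hy' : orderOf (c * y * c⁻¹) = 13 := by rw [orderOf_conj', hy]
  obtain ⟨v, hv, hyv, h1, h2, h3⟩ := base39 hC hy' hc
  obtain ⟨h4, h5, h6⟩ := sec_gen Nat.prime_three (by rw [c13B hy' (ev_of_comm hc)]; norm_num) (by rw [hy']; norm_num) hv
    (by rw [orderOf_conj', hw] : orderOf (c * w * c⁻¹) = 3) hyv (conj_comm c hyw)
  have h7 : c * y * c⁻¹ * (c * w * c⁻¹) = c * (y * w) * c⁻¹ := by group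
  rw [h7, ch_conj] at h5
  rw [h7, cc, card_cent_conj] at h6
  rw [ch_conj] at h4
  exact ⟨h4.trans h1, h5.trans h2, h6.trans h3⟩

theorem X13B : NM / 52728 ≤ Nat.card {g : MG // orderOf g = 13 ∧ Ev g} := by
  have := finite
  obtain ⟨a, x, t, L, R, ht, F⟩ := exists_fct
  have h1 := div_le_class F.cx.le
  rw [card_M] at h1
  refine h1.trans (Nat.card_le_card_of_injective (fun g => ⟨g.1, ?_, ev_isConj g.2 (ev_x ht F)⟩) ?_)
  · obtain ⟨c, hc⟩ := isConj_iff.1 g.2
    rw [← hc, orderOf_conj', F.ox]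
  · intro a b hab
    exact Subtype.ext (congrArg Subtype.val hab :)

theorem box_39CD (hC : Cover) : BoxM 117 := by
  have := finite
  refine box_fib (p := 13) (m := 3) (n := 676 * 2) (R := fun w => orderOf w = 3) (by norm_num) X13B (fun _ h => h.1)
    (fun _ h => h) (fun y hy => ?_) (fun y w hy hyw hw => ?_) (by rw [cnt_39CD]; decide +kernel)
  · refine card_order_in (H := centralizer ({y} : Set MG)) (c := 78) Nat.prime_three
      (by rw [← cc, c13B hy.1 hy.2]; norm_num) (fun g hg ho => ?_) (by rw [← cc, c13B hy.1 hy.2]) (by decide +kernel)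
      fun g hg ho => ⟨(mem_centralizer_singleton_iff.1 hg).symm, ho⟩
    have h3 := (mem_centralizer_singleton_iff.1 hg).symm
    rw [← cc_mul (by norm_num) hy.1 h3 ho (by norm_num)]
    exact (sec39 hC hy.1 hy.2 ho h3).2.2
  · obtain ⟨h1, h2, -⟩ := sec39 hC hy.1 hy.2 hw hyw
    exact ty_pq sg_39CD (by norm_num) hy.1 hyw hw (by norm_num) (by norm_num) h2 (v13B hC hy.1 hy.2) h1

/-! ### The group `SL₃(3)` -/

section sl

open Cfsg.Agent.H599.M23 Cfsg.Agent.H599.M23.Code3 Cfsg.Agent.H599.M23.Data3 Cfsg.Agent.H599.M23.Spec3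
open Cfsg.Agent.H599.M23.Inv3 Cfsg.Agent.H599.M23.Norm3

theorem finS : Finite S := Nat.finite_of_card_ne_zero (by rw [card_S]; norm_num)

theorem cls3 {k : S} (hk : orderOf k = 3) : IsConj (xr 2) k ∨ IsConj (xr 3) k := by
  classical
  have := finS
  have : Fact (Nat.Prime 3) := ⟨Nat.prime_three⟩
  let n : S → ℕ := fun g => if IsConj (xr 0) g ∨ IsConj (xr 2) g ∨ IsConj (xr 3) g then 0 else 1
  have hn : ∀ x y, n (x * y * x⁻¹) = n y := by
    intro x y
    have h1 : IsConj y (x * y * x⁻¹) := isConj_iff.2 ⟨x, rfl⟩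
    have h2 : ∀ u, IsConj u (x * y * x⁻¹) ↔ IsConj u y := fun u => ⟨fun h => h.trans h1.symm, fun h => h.trans h1⟩
    simp only [n, h2]
  obtain ⟨H, h1, h2⟩ := sub_avg (f := fun g => (n g : ℂ)) (h1 := by decide) (fun x y => by rw [hn]) g6 c6
  have h3 : Nat.card H = 3 ^ 3 := h1
  have e0 : n (xr 0) = 0 := if_pos (Or.inl (IsConj.refl _))
  have e2 : n (xr 2) = 0 := if_pos (Or.inr (Or.inl (IsConj.refl _)))
  have e3 : n (xr 3) = 0 := if_pos (Or.inr (Or.inr (IsConj.refl _)))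
  have := Fintype.ofFinite H
  rw [L33.W_eq, Fv_eq (i := 0) (by norm_num), Fv_eq (i := 2) (by norm_num), Fv_eq (i := 3) (by norm_num), e0, e2, e3,
    finsum_eq_sum_of_fintype] at h2
  simp only [Nat.cast_zero, zero_mul, mul_zero, add_zero] at h2
  have h4 : ∑ g : H, n g = 0 := by exact_mod_cast h2
  obtain ⟨P, hP⟩ := (IsPGroup.of_card h3).exists_le_sylow
  have h5 : H = P := Subgroup.eq_of_le_of_card_ge hP (by
    obtain ⟨j, hj⟩ := IsPGroup.iff_card.1 P.isPGroup'
    have h6 := Subgroup.card_subgroup_dvd_card (P : Subgroup S)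
    rw [hj, card_S] at h6
    rw [hj, h3]
    refine Nat.pow_le_pow_right (by norm_num) ?_
    by_contra h7
    have h8 := (pow_dvd_pow 3 (by omega : 4 ≤ j)).trans h6
    norm_num at h8)
  obtain ⟨Q, hQ⟩ := (IsPGroup.of_card (p := 3) (G := zpowers k) (n := 1)
    (by rw [Nat.card_zpowers, hk, pow_one])).exists_le_sylow
  obtain ⟨c, hc⟩ := MulAction.exists_smul_eq S Q P
  have h6 : c * k * c⁻¹ ∈ H := by
    rw [h5, ← hc, Sylow.coe_subgroup_smul]
    exact Subgroup.smul_mem_pointwise_smul _ (MulAut.conj c) _ (hQ (Subgroup.mem_zpowers k))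
  have h7 : n (c * k * c⁻¹) = 0 := Finset.sum_eq_zero_iff.1 h4 ⟨_, h6⟩ (Finset.mem_univ _)
  rw [hn] at h7
  by_contra h8
  rw [not_or] at h8
  have h9 : ¬ IsConj (xr 0) k := by
    intro h
    have h10 := orderOf_conj h
    rw [hk, order_xr.1] at h10
    omega
  simp only [n, h8.1, h8.2, h9, or_self, if_false] at h7
  omega

theorem xr_pow {i j n : ℕ} (hi : i < 12) (hj : j < 12) (h : powC (rp i) n = rp j) : xr i ^ n = xr j :=
  cd_inj (by rw [cd_pow, cd_xr hi, cd_xr hj, h])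

theorem xr4_2 : xr 4 ^ 2 = xr 1 := xr_pow (by norm_num) (by norm_num) (by decide +kernel)

theorem xr5_3 : xr 5 ^ 3 = xr 1 := xr_pow (by norm_num) (by norm_num) (by decide +kernel)

theorem xr6_4 : xr 6 ^ 4 = xr 1 := xr_pow (by norm_num) (by norm_num) (by decide +kernel)

theorem xr7_4 : xr 7 ^ 4 = xr 1 := xr_pow (by norm_num) (by norm_num) (by decide +kernel)

theorem xr5_2 : IsConj (xr 2) (xr 5 ^ 2) := by
  refine isConj_iff.2 ⟨el 2223 (by decide +kernel), mul_inv_eq_iff_eq_mul.2 (cd_inj ?_)⟩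
  rw [cd_mul, cd_mul, cd_pow, cd_xr (by norm_num), cd_xr (by norm_num), cd_el _ (by norm_num)]
  decide +kernel

/-! ### The class `13A` -/

/-- the data -/
structure A13 (a : MG) (φ : S →* MG) : Prop where
  emb : Emb 13 a φ
  ca : cc a = 73008
  ta : ∀ u : MG, orderOf u = 2 → a * u = u * a → TA u
  cl : ∀ y : MG, orderOf y = 13 → IsConj a y ∨ Ev y

theorem exists_a13 : ∃ (a : MG) (φ : S →* MG), A13 a φ := by
  obtain ⟨a, x, t, L, R, ht, F⟩ := exists_fct
  obtain ⟨e⟩ := F.iso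
  obtain ⟨φ, E⟩ := emb_of_sp (by norm_num) F.sp e
  exact ⟨a, φ, E, F.ca, fun u hu h => ta_of_fct ht F hu h,
    fun y hy => (F.cl y hy).imp id fun h => ev_isConj h (ev_x ht F)⟩

variable {a : MG} {φ : S →* MG}

theorem A13.cen (A : A13 a φ) {i : ℕ} (hi : i < 8) : cc (a * φ (xr i)) ≤ 13 * cz i :=
  @Emb.cen_le _ _ _ _ _ finS A.emb (by norm_num) _ (reg_xr i hi) _ (cent_xr i hi)

theorem A13.o1 (A : A13 a φ) : orderOf (φ (xr 1)) = 2 := (A.emb.ordf _).trans order_xr.2.1

theorem A13.o2 (A : A13 a φ) : orderOf (φ (xr 2)) = 3 := (A.emb.ordf _).trans order_xr.2.2.1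

theorem A13.o3 (A : A13 a φ) : orderOf (φ (xr 3)) = 3 := (A.emb.ordf _).trans order_xr.2.2.2.1

theorem A13.o4 (A : A13 a φ) : orderOf (φ (xr 4)) = 4 := (A.emb.ordf _).trans order_xr.2.2.2.2.1

theorem A13.o5 (A : A13 a φ) : orderOf (φ (xr 5)) = 6 := (A.emb.ordf _).trans order_xr.2.2.2.2.2.1

theorem A13.o6 (A : A13 a φ) : orderOf (φ (xr 6)) = 8 := (A.emb.ordf _).trans order_xr.2.2.2.2.2.2.1

theorem A13.o7 (A : A13 a φ) : orderOf (φ (xr 7)) = 8 := (A.emb.ordf _).trans order_xr.2.2.2.2.2.2.2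

theorem A13.t1 (A : A13 a φ) : TA (φ (xr 1)) := A.ta _ A.o1 (A.emb.comm _)

theorem A13.partner (hC : Cover) (A : A13 a φ) {v : MG} (hv : orderOf v = 3) (hd : 13 ∣ cc v) (h54 : ch v ≠ 54) :
    ch (φ (xr 2)) = ch v ∨ ch (φ (xr 3)) = ch v := by
  have := finite
  obtain ⟨y, hy, ho⟩ := exists_order_mem (H := centralizer ({v} : Set MG)) (by norm_num) hd
  have hyv := mem_centralizer_singleton_iff.1 hy
  rcases A.cl y ho with h | h
  · obtain ⟨c, hc⟩ := isConj_iff.1 h.symm
    have h2 := conj_comm c hyv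
    rw [hc] at h2
    obtain ⟨k, hk⟩ := A.emb.reg _ h2 (by rw [orderOf_conj', hv]; norm_num)
    have h3 : orderOf k = 3 := by rw [← A.emb.ordf, hk, orderOf_conj', hv]
    have h4 : ch (φ k) = ch v := by rw [hk, ch_conj]
    exact (cls3 h3).imp (fun h5 => (ch_isConj (φ.map_isConj h5)).trans h4)
      fun h5 => (ch_isConj (φ.map_isConj h5)).trans h4
  · exact absurd (sec39 hC ho h hv hyv).1 h54

theorem A13.o52 (A : A13 a φ) : orderOf (φ (xr 5) ^ 2) = 3 := by
  rw [orderOf_pow' _ (by norm_num), A.o5]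
  norm_num

theorem A13.c52 (_ : A13 a φ) : φ (xr 1) * φ (xr 5) ^ 2 = φ (xr 5) ^ 2 * φ (xr 1) := by
  rw [← xr5_3, map_pow]
  exact (Commute.pow_pow_self _ 3 2).eq

theorem A13.three (hC : Cover) (hN : CountC) (A : A13 a φ) : ch (φ (xr 2)) = 783 ∧ ch (φ (xr 3)) = 0 := by
  obtain ⟨v, hv, h1, h2⟩ := exists_3A'
  obtain ⟨w, hw, h3, h4⟩ := exists_3C'
  have h5 := A.partner hC hv (by rw [h2]; norm_num) (by omega)
  have h6 := A.partner hC hw (by rw [h4]; norm_num) (by omega)
  have h7 := three_ta hC hN A.o52 A.t1 A.c52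
  rw [← map_pow, ← ch_isConj (φ.map_isConj xr5_2)] at h7
  omega

theorem A13.v52 (hC : Cover) (hN : CountC) (A : A13 a φ) : ch (φ (xr 5) ^ 2) = 783 := by
  rw [← map_pow, ← ch_isConj (φ.map_isConj xr5_2), (A.three hC hN).1]

theorem A13.v6 (hC : Cover) (hN : CountC) (A : A13 a φ) : ch (φ (xr 5)) = 79 := by
  have h1 := ch_six hC hN A.o52 (A.v52 hC hN) A.t1 A.c52
  rwa [← xr5_3, map_pow, ← pow_add, ch_gal (by rw [A.o5]; norm_num)] at h1

theorem A13.v78 (hC : Cover) (hN : CountC) (A : A13 a φ) : ch (a * φ (xr 5)) = 1 := by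
  have h1 := cong (by norm_num) A.emb.ord (A.emb.comm (xr 5)) (by rw [A.o5]; norm_num)
  have h2 := ch_abs 8 (A.cen (i := 5) (by norm_num)) (by decide)
  rw [A.v6 hC hN] at h1
  omega

theorem A13.v26 (hC : Cover) (hN : CountC) (A : A13 a φ) : ch (a * φ (xr 1)) = 4 := by
  have h1 := cong (by norm_num) A.emb.ord (A.emb.comm (xr 1)) (by rw [A.o1]; norm_num)
  have h2 := ch_abs 24 (A.cen (i := 1) (by norm_num)) (by decide)
  have h3 := ch_pow_prime (a * φ (xr 5)) Nat.prime_three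
  rw [pw_in (by norm_num) A.emb.ord (A.emb.comm _) (by rw [A.o5]; norm_num) (by norm_num), ← map_pow, xr5_3,
    A.v78 hC hN] at h3
  rw [ch_ta A.t1] at h1
  omega

theorem A13.v39B (hC : Cover) (hN : CountC) (A : A13 a φ) : ch (a * φ (xr 3)) = 0 := by
  have h1 := cong (by norm_num) A.emb.ord (A.emb.comm (xr 3)) (by rw [A.o3]; norm_num)
  have h2 := ch_abs 10 (A.cen (i := 3) (by norm_num)) (by decide)
  rw [(A.three hC hN).2] at h1
  omega

theorem A13.v39A (hC : Cover) (hN : CountC) (A : A13 a φ) : ch (a * φ (xr 2)) = 3 := by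
  have h1 := cong (by norm_num) A.emb.ord (A.emb.comm (xr 2)) (by rw [A.o2]; norm_num)
  have h2 := ch_abs 26 (A.cen (i := 2) (by norm_num)) (by decide)
  have h3 := ch_pow_prime (a * φ (xr 5)) Nat.prime_two
  have h4 := cong' Nat.prime_three A.o2 (A.emb.comm _) (by rw [A.emb.ord]; norm_num)
  have h5 := cong' Nat.prime_three A.o3 (A.emb.comm _) (by rw [A.emb.ord]; norm_num)
  rw [pw_in (by norm_num) A.emb.ord (A.emb.comm _) (by rw [A.o5]; norm_num) (by norm_num), ← map_pow,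
    ← ch_isConj (A.emb.isConj xr5_2), A.v78 hC hN] at h3
  rw [(A.three hC hN).1] at h1
  rw [A.v39B hC hN] at h5
  omega

theorem A13.four (hC : Cover) (hN : CountC) (A : A13 a φ) {y : MG} (hy : orderOf y = 4) (hay : a * y = y * a)
    (h : y ^ 2 = φ (xr 1)) : ch y = 52 ∧ ch (a * y) = 0 := by
  have := finite
  have h0 := ch_four hC hy (by rw [h, ch_ta A.t1])
  have h1 := cong (by norm_num) A.emb.ord hay (by rw [hy]; norm_num)
  have h2 : cc (a * y) ≤ 13 * cz 1 := by
    refine le_trans ?_ (A.cen (i := 1) (by norm_num))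
    rw [cc_mul (by norm_num) A.emb.ord hay hy (by norm_num), cc_mul (by norm_num) A.emb.ord (A.emb.comm _) A.o1 (by norm_num),
      ← h]
    exact Subgroup.card_le_of_le (inf_le_inf_left _ (cent_le_pow y 2))
  have h3 := ch_abs 24 h2 (by decide)
  have h4 := ch_pow_prime (a * y) Nat.prime_two
  rw [pw_in (by norm_num) A.emb.ord hay (by rw [hy]; norm_num) (by norm_num), h, A.v26 hC hN] at h4
  rw [h0] at h1
  exact ⟨h0, by omega⟩

theorem A13.eight (hC : Cover) (A : A13 a φ) {y : MG} (hy : orderOf y = 8) (hay : a * y = y * a)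
    (h : y ^ 4 = φ (xr 1)) (hc : cc (a * y) ≤ 104) : ch y = 0 ∧ ch (a * y) = 0 := by
  have h0 := ch_eight hC hy (by rw [h, ch_ta A.t1])
  have h1 := cong (by norm_num) A.emb.ord hay (by rw [hy]; norm_num)
  have h3 := ch_abs 10 hc (by decide)
  rw [h0] at h1
  exact ⟨h0, by omega⟩

theorem A13.v13 (hC : Cover) (hN : CountC) (A : A13 a φ) : ch a = 12 := by
  have ha := A.emb.ord
  have hy := A.o6
  have hay : Commute a (φ (xr 6)) := A.emb.comm _
  have h4 : φ (xr 6) ^ 4 = φ (xr 1) := by rw [← map_pow, xr6_4]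
  have h8 := (A.eight hC hy hay.eq h4 (A.cen (i := 6) (by norm_num))).2
  generalize φ (xr 6) = y at hy hay h4 h8
  have ho : orderOf (y ^ 2) = 4 := by rw [orderOf_pow' _ (by norm_num), hy]; norm_num
  have h2 := (A.four hC hN ho (hay.pow_right 2).eq (by rw [← pow_mul, h4])).2
  have h6 : ch (a * y ^ 6) = 0 := by
    rw [show 6 = 2 * 3 from rfl, pow_mul, ch_twist' (by norm_num) ha (hay.pow_right 2).eq (by rw [ho]; norm_num)
      (by rw [ho]; norm_num), h2]
  have hodd : ∀ d, Nat.Coprime d 8 → ch (a * y ^ d) = 0 := fun d hd => by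
    rw [ch_twist' (by norm_num) ha hay.eq (by rw [hy]; norm_num) (by rw [hy]; exact hd), h8]
  have h1 := ch_avg_cyc hay
  rw [hy] at h1
  simp only [Finset.sum_range_succ, Finset.range_zero, Finset.sum_empty] at h1
  rw [pow_zero, mul_one, hodd 1 (by norm_num), h2, hodd 3 (by norm_num), h4, A.v26 hC hN, hodd 5 (by norm_num), h6,
    hodd 7 (by norm_num)] at h1
  have h3 := ch_prime (by norm_num) ha
  have h5 := cong' Nat.prime_three A.o3 (A.emb.comm _) (by rw [ha]; norm_num)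
  have h7 := ch_abs 270 A.ca.le (by norm_num)
  rw [A.v39B hC hN] at h5
  omega

theorem A13.ty104 (hC : Cover) (hN : CountC) (A : A13 a φ) {y : MG} (hy : orderOf y = 8) (hay : a * y = y * a)
    (h : y ^ 4 = φ (xr 1)) (hc : cc (a * y) ≤ 104) : TyM 167 (a * y) := by
  obtain ⟨h1, h2⟩ := A.eight hC hy hay h hc
  have ho : orderOf (y ^ 2) = 4 := by rw [orderOf_pow' _ (by norm_num), hy]; norm_num
  obtain ⟨h3, h4⟩ := A.four hC hN ho ((show Commute a y from hay).pow_right 2).eq (by rw [← pow_mul, h])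
  refine ty_of sg_104AB (by norm_num) A.emb.ord hay hy (by norm_num) (by norm_num) ?_
  simp only [List.forall_mem_cons, List.not_mem_nil, false_imp_iff, implies_true, and_true]
  refine ⟨Or.inl ⟨by norm_num, ?_⟩, Or.inl ⟨by norm_num, h4⟩, Or.inl ⟨by norm_num, ?_⟩, Or.inl ⟨by norm_num, ?_⟩,
    Or.inr ⟨by norm_num, ?_⟩, Or.inr ⟨by norm_num, h3⟩, Or.inr ⟨by norm_num, ?_⟩⟩
  · rw [pow_one, h2]
  · rw [h, A.v26 hC hN]
  · rw [← hy, pow_orderOf_eq_one, mul_one, A.v13 hC hN]
  · rw [show 13 / 13 = 1 from rfl, pow_one, h1]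
  · rw [show 52 / 13 = 4 from rfl, h, ch_ta A.t1]

theorem A13.not67 (A : A13 a φ) : ¬ IsConj (a * φ (xr 6)) (a * φ (xr 7)) := by
  intro h
  obtain ⟨c, hc⟩ := isConj_iff.1 h
  have ha := A.emb.ord
  have key : ∀ y : MG, orderOf y = 8 → a * y = y * a → (a * y) ^ 40 = a := by
    intro y hy hay
    rw [(show Commute a y from hay).mul_pow, show 40 = 13 * 3 + 1 from rfl, pow_succ, pow_mul, ← ha, pow_orderOf_eq_one,
      one_pow, one_mul, ha, show 13 * 3 + 1 = 8 * 5 from rfl, pow_mul, ← hy, pow_orderOf_eq_one, one_pow, mul_one]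
  have h1 : c * a * c⁻¹ = a := by
    have h2 := congrArg (· ^ 40) hc
    simp only [conj_pow] at h2
    rwa [key _ A.o6 (A.emb.comm _), key _ A.o7 (A.emb.comm _)] at h2
  have h2 : c * a = a * c := mul_inv_eq_iff_eq_mul.1 h1
  obtain ⟨i, s, rfl⟩ := A.emb.split c h2
  have h3 : Commute (a ^ i) (φ (s * xr 6 * s⁻¹)) := (show Commute a _ from A.emb.comm _).pow_left i
  have h4 : a ^ i * φ s * (a * φ (xr 6)) * (a ^ i * φ s)⁻¹ = a * φ (s * xr 6 * s⁻¹) := by
    calc a ^ i * φ s * (a * φ (xr 6)) * (a ^ i * φ s)⁻¹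
        = a ^ i * (φ s * a) * (φ (xr 6) * (φ s)⁻¹) * (a ^ i)⁻¹ := by group
      _ = a * (a ^ i * φ (s * xr 6 * s⁻¹)) * (a ^ i)⁻¹ := by rw [← A.emb.comm, map_mul, map_mul, map_inv]; group
      _ = _ := by rw [h3.eq]; group
  rw [h4] at hc
  exact Norm3.not67 (isConj_iff.2 ⟨s, A.emb.inj (mul_left_cancel hc)⟩)

theorem boxC_13A (hC : Cover) (hN : CountC) : BoxCM 44 := by
  obtain ⟨a, φ, A⟩ := exists_a13
  exact boxC_of (ty_one sg_13A A.emb.ord (A.v13 hC hN)) A.ca.le (by rw [cnt_13A])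

theorem boxC_26A (hC : Cover) (hN : CountC) : BoxCM 87 := by
  obtain ⟨a, φ, A⟩ := exists_a13
  exact boxC_of (ty_pq sg_26A (by norm_num) A.emb.ord (A.emb.comm _) A.o1 (by norm_num) (by norm_num) (A.v26 hC hN)
    (A.v13 hC hN) (ch_ta A.t1)) (A.cen (i := 1) (by norm_num)) (by rw [cnt_26A]; decide +kernel)

theorem boxC_39A (hC : Cover) (hN : CountC) : BoxCM 115 := by
  obtain ⟨a, φ, A⟩ := exists_a13
  exact boxC_of (ty_pq sg_39A (by norm_num) A.emb.ord (A.emb.comm _) A.o2 (by norm_num) (by norm_num) (A.v39A hC hN)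
    (A.v13 hC hN) (A.three hC hN).1) (A.cen (i := 2) (by norm_num)) (by rw [cnt_39A]; decide +kernel)

theorem boxC_39B (hC : Cover) (hN : CountC) : BoxCM 116 := by
  obtain ⟨a, φ, A⟩ := exists_a13
  exact boxC_of (ty_pq sg_39B (by norm_num) A.emb.ord (A.emb.comm _) A.o3 (by norm_num) (by norm_num) (A.v39B hC hN)
    (A.v13 hC hN) (A.three hC hN).2) (A.cen (i := 3) (by norm_num)) (by rw [cnt_39B]; decide +kernel)

theorem boxC_52A (hC : Cover) (hN : CountC) : BoxCM 134 := by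
  obtain ⟨a, φ, A⟩ := exists_a13
  have h0 : φ (xr 4) ^ 2 = φ (xr 1) := by rw [← map_pow, xr4_2]
  obtain ⟨h1, h2⟩ := A.four hC hN A.o4 (A.emb.comm _) h0
  refine boxC_of (ty_of sg_52A (by norm_num) A.emb.ord (A.emb.comm _) A.o4 (by norm_num) (by norm_num) ?_)
    (A.cen (i := 4) (by norm_num)) (by rw [cnt_52A]; decide +kernel)
  simp only [List.forall_mem_cons, List.not_mem_nil, false_imp_iff, implies_true, and_true]
  refine ⟨Or.inl ⟨by norm_num, ?_⟩, Or.inl ⟨by norm_num, ?_⟩, Or.inl ⟨by norm_num, ?_⟩,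
    Or.inr ⟨by norm_num, ?_⟩, Or.inr ⟨by norm_num, ?_⟩⟩
  · rw [pow_one, h2]
  · rw [h0, A.v26 hC hN]
  · rw [orderOf_dvd_iff_pow_eq_one.1 A.o4.dvd, mul_one, A.v13 hC hN]
  · rw [show 13 / 13 = 1 from rfl, pow_one, h1]
  · rw [show 26 / 13 = 2 from rfl, h0, ch_ta A.t1]

theorem boxC_78A (hC : Cover) (hN : CountC) : BoxCM 156 := by
  obtain ⟨a, φ, A⟩ := exists_a13
  have h0 : φ (xr 5) ^ 3 = φ (xr 1) := by rw [← map_pow, xr5_3]
  refine boxC_of (ty_of sg_78A (by norm_num) A.emb.ord (A.emb.comm _) A.o5 (by norm_num) (by norm_num) ?_)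
    (A.cen (i := 5) (by norm_num)) (by rw [cnt_78A]; decide +kernel)
  simp only [List.forall_mem_cons, List.not_mem_nil, false_imp_iff, implies_true, and_true]
  refine ⟨Or.inl ⟨by norm_num, ?_⟩, Or.inl ⟨by norm_num, ?_⟩, Or.inl ⟨by norm_num, ?_⟩, Or.inl ⟨by norm_num, ?_⟩,
    Or.inr ⟨by norm_num, ?_⟩, Or.inr ⟨by norm_num, A.v52 hC hN⟩, Or.inr ⟨by norm_num, ?_⟩⟩
  · rw [pow_one, A.v78 hC hN]
  · rw [← map_pow, ← ch_isConj (A.emb.isConj xr5_2), A.v39A hC hN]
  · rw [h0, A.v26 hC hN]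
  · rw [← A.o5, pow_orderOf_eq_one, mul_one, A.v13 hC hN]
  · rw [show 13 / 13 = 1 from rfl, pow_one, A.v6 hC hN]
  · rw [show 39 / 13 = 3 from rfl, h0, ch_ta A.t1]

theorem box_104AB (hC : Cover) (hN : CountC) : BoxM 167 := by
  have := finite
  obtain ⟨a, φ, A⟩ := exists_a13
  have h6 : cc (a * φ (xr 6)) ≤ 104 := A.cen (i := 6) (by norm_num)
  have h7 : cc (a * φ (xr 7)) ≤ 104 := A.cen (i := 7) (by norm_num)
  exact Box.of_two (A.ty104 hC hN A.o6 (A.emb.comm _) (by rw [← map_pow, xr6_4]) h6)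
    (A.ty104 hC hN A.o7 (A.emb.comm _) (by rw [← map_pow, xr7_4]) h7) A.not67 h6 h7
    (by rw [cnt_104AB, card_M])

end sl

theorem box_13A (hC : Cover) (hN : CountC) : BoxM 44 := (boxC_13A hC hN).box

theorem box_13B (hC : Cover) : BoxM 45 := (boxC_13B hC).box

theorem box_26A (hC : Cover) (hN : CountC) : BoxM 87 := (boxC_26A hC hN).box

theorem box_39A (hC : Cover) (hN : CountC) : BoxM 115 := (boxC_39A hC hN).box

theorem box_39B (hC : Cover) (hN : CountC) : BoxM 116 := (boxC_39B hC hN).box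

theorem box_52A (hC : Cover) (hN : CountC) : BoxM 134 := (boxC_52A hC hN).box

theorem box_78A (hC : Cover) (hN : CountC) : BoxM 156 := (boxC_78A hC hN).box

end Cfsg.Agent.TAB.Big
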