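import Cfsg.Agent.TAB.Big.Mid
import Cfsg.Agent.TAB.M7.Ident
import Cfsg.Agent.H66.M23.Eleven
import Cfsg.Agent.H994.M23.Norm
import Cfsg.Agent.H595.Weak.MTwelve
import Cfsg.Agent.H680.PQR.BEleven

/-!
# The boxes of the prime 11 (helper58, TAB)
-/

set_option autoImplicit false
set_option maxRecDepth 100000

namespace Cfsg.Agent.TAB.Big

open Cfsg Cfsg.Agent.TAB.Eng Cfsg.Agent.TAB.M Cfsg.Agent.TAB.M7 Cfsg.Agent.BpSpor.MBigModel
open Cfsg.Agent.TAB.C2B (Cover CountC)
open Cfsg.Agent.LThreeB.Row (TA)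
open Cfsg.Agent.H199.NSmMon (Ev)
open Cfsg.Agent.H994.M23.Norm (Sp)
open Cfsg.Agent.H136.M23.BWords (xu)
open Cfsg.Agent.H651.HNF (Ty)
open Subgroup (centralizer zpowers mem_centralizer_singleton_iff)

/-! ### `C(a) = ⟨a⟩ × S` -/

/-- `C(a) = ⟨a⟩ × φ(S)` -/
structure Emb {S : Type} [Group S] (p : ℕ) (a : MG) (φ : S →* MG) : Prop where
  ord : orderOf a = p
  inj : Function.Injective φ
  comm : ∀ s, a * φ s = φ s * a
  split : ∀ c, c * a = a * c → ∃ (i : ℕ) (s : S), c = a ^ i * φ s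
  reg : ∀ y, a * y = y * a → ¬ p ∣ orderOf y → ∃ s, φ s = y

theorem emb_of_sp {S : Type} [Group S] {p : ℕ} (hp : p.Prime) {a : MG} {L : Subgroup MG} (h : Sp p a L) (e : L ≃* S) :
    ∃ φ : S →* MG, Emb p a φ := by
  have : Fact p.Prime := ⟨hp⟩
  have key : ∀ t ∈ L, ∃ s, (L.subtype.comp e.symm.toMonoidHom) s = t := fun t ht =>
    ⟨e ⟨t, ht⟩, congrArg Subtype.val (e.symm_apply_apply ⟨t, ht⟩)⟩
  refine ⟨L.subtype.comp e.symm.toMonoidHom, h.ord, L.subtype_injective.comp e.symm.injective,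
    fun s => (h.comm (e.symm s).2).eq, fun c hc => ?_, fun y hy hpy => ?_⟩
  · obtain ⟨i, t, ht, rfl⟩ := h.split c (mem_centralizer_singleton_iff.2 hc)
    obtain ⟨s, rfl⟩ := key t ht
    exact ⟨i, s, rfl⟩
  · exact key y (h.reg_mem (mem_centralizer_singleton_iff.2 hy.symm) hpy)

section emb

variable {S : Type} [Group S] {p : ℕ} {a : MG} {φ : S →* MG}

theorem Emb.ordf (E : Emb p a φ) (s : S) : orderOf (φ s) = orderOf s := orderOf_injective φ E.inj s

theorem Emb.cen_le [Finite S] (E : Emb p a φ) (hp : p.Prime) {s : S} (hs : ¬ p ∣ orderOf s) {n : ℕ}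
    (hn : Nat.card (centralizer ({s} : Set S)) ≤ n) : cc (a * φ s) ≤ p * n := by
  have := finite
  refine le_trans ?_ (Nat.mul_le_mul_left p hn)
  rw [cc_mul hp E.ord (E.comm s) (E.ordf s) hs, ← E.ord, ← Nat.card_zpowers, ← Nat.card_prod]
  refine Nat.card_le_card_of_surjective (fun q => ⟨q.1.1 * φ q.2.1, ?_, ?_⟩) ?_
  · obtain ⟨⟨b, i, rfl⟩, ⟨c, hc⟩⟩ := q
    exact mem_centralizer_singleton_iff.2
      (((Commute.refl a).zpow_left i).mul_left (show Commute (φ c) a from (E.comm c).symm)).eq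
  · obtain ⟨⟨b, i, rfl⟩, ⟨c, hc⟩⟩ := q
    have h1 : Commute c s := mem_centralizer_singleton_iff.1 hc
    exact mem_centralizer_singleton_iff.2
      (((show Commute a (φ s) from E.comm s).zpow_left i).mul_left (h1.map φ)).eq
  · rintro ⟨c, h1, h2⟩
    obtain ⟨i, k, rfl⟩ := E.split c (mem_centralizer_singleton_iff.1 h1)
    have h3 : Commute (a ^ i * φ k) (φ s) := mem_centralizer_singleton_iff.1 h2
    have h4 := ((show Commute a (φ s) from E.comm s).pow_left i).inv_left.mul_left h3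
    rw [inv_mul_cancel_left] at h4
    refine ⟨(⟨a ^ i, Subgroup.pow_mem _ (Subgroup.mem_zpowers _) i⟩, ⟨k, ?_⟩), rfl⟩
    rw [mem_centralizer_singleton_iff]
    apply E.inj
    rw [map_mul, map_mul]
    exact h4.eq

theorem Emb.isConj (E : Emb p a φ) {s t : S} (h : IsConj s t) : IsConj (a * φ s) (a * φ t) := by
  obtain ⟨c, rfl⟩ := isConj_iff.1 h
  refine isConj_iff.2 ⟨φ c, ?_⟩
  rw [map_mul, map_mul, map_inv, ← mul_assoc, ← E.comm]
  simp only [mul_assoc]

theorem Emb.comm_mul (E : Emb p a φ) {s t : S} (h : s * t = t * s) : φ t * (a * φ s) = (a * φ s) * φ t := by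
  rw [← mul_assoc, ← E.comm, mul_assoc, mul_assoc, ← map_mul, ← map_mul, h]

end emb

theorem ev_of_conj {u g : MG} (hu : IsConj zz u) (h : u * g = g * u) : Ev g := by
  obtain ⟨c, rfl⟩ := isConj_iff.1 hu
  exact ⟨c, h⟩

theorem ta_of_vals (hC : Cover) {t g : MG} {n : ℕ} (ht : orderOf t = 2) (h : t * g = g * t) (hg : orderOf g = n)
    (hn : vals n = []) : TA t := by
  rcases cls ht with ⟨c, rfl⟩ | h1
  · obtain ⟨l, hl, -⟩ := ev_vals hC ⟨c, h⟩ hg hn
    exact absurd hl List.not_mem_nil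
  · exact h1

theorem exists_z {p : ℕ} (hp : p.Prime) (h2 : ¬ p ^ 2 ∣ NM) (hd : p ∣ NC) {y : MG} (hy : orderOf y = p) :
    ∃ u : MG, IsConj zz u ∧ y * u = u * y := by
  have := finite
  obtain ⟨c, hc⟩ := exists_comm (v := zz) hp (by rw [card_M]; exact h2) (by rw [card_cent_z]; exact hd) hy
  exact ⟨_, isConj_iff.2 ⟨c, rfl⟩, hc⟩

theorem ord_z {u : MG} (hu : IsConj zz u) : orderOf u = 2 := by
  obtain ⟨c, rfl⟩ := isConj_iff.1 hu
  rw [orderOf_conj']
  exact H241.Mon.z_order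

theorem exists_3A' : ∃ v : MG, orderOf v = 3 ∧ ch v = 783 ∧ cc v = 3 * 1255205709190661721292800 := by
  have := finite
  obtain ⟨v, hv, -, hd, h⟩ := exists_3A
  exact ⟨v, hv, hd, by rw [cc, M4.card_xx, hv, H241.Mon.card_fi h]⟩

theorem exists_3C' : ∃ v : MG, orderOf v = 3 ∧ ch v = 0 ∧ cc v = 3 * 90745943887872000 := by
  have := finite
  obtain ⟨v, hv, -, hd, h⟩ := exists_3C
  exact ⟨v, hv, hd, by rw [cc, M4.card_xx, hv, H241.Mon.card_th h]⟩

/-- the product of commuting elements of the classes `2A` and `3A` -/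
theorem ch_six (hC : Cover) (hN : CountC) {t v : MG} (hv : orderOf v = 3) (hd : ch v = 783) (hta : TA t)
    (htv : t * v = v * t) : ch (t * v) = 79 := by
  have ht := ord_ta hta
  have ht2 : t ^ 2 = 1 := by rw [← ht, pow_orderOf_eq_one]
  have hc : Commute t v := htv
  have e2 : (t * v) ^ 2 = v ^ 2 := by rw [hc.mul_pow, ht2, one_mul]
  have e3 : (t * v) ^ 3 = t := by
    rw [hc.mul_pow, ← hv, pow_orderOf_eq_one, mul_one, hv, pow_succ, ht2, one_mul]
  have he := ev_three_mul hC hN hv (ev_three_of hv ht htv) (by omega) htv (n := 1) ht2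
  rw [← htv] at he
  obtain ⟨l, hl, H⟩ := ev_vals hC he (order_mul htv ht hv (by norm_num)) vals6
  have h1 : ch (v ^ 2) = 783 := by rw [ch_gal (by rw [hv]; norm_num), hd]
  have h2 := ch_ta hta
  simp only [List.mem_cons, List.not_mem_nil, or_false] at hl
  rcases hl with rfl | rfl | rfl | rfl | rfl | rfl <;>
    simp only [List.forall_mem_cons, List.not_mem_nil, false_imp_iff, implies_true, and_true, pow_one, e2, e3] at H <;>
    omega

/-! ### The class `11A` -/

theorem ev11 {a : MG} (ha : orderOf a = 11) : Ev a := by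
  obtain ⟨x, hx, ho⟩ := @exists_order_mem MG _ finite (centralizer ({zz} : Set MG)) 11 (by norm_num)
    (by rw [card_cent_z]; norm_num)
  obtain ⟨c, rfl⟩ := isConj_iff.1 (H66.M23.Eleven.isConj ho ha)
  exact (ev_of_comm (mem_centralizer_singleton_iff.1 hx)).conj c

theorem vals11 : vals 11 = [[(1, 17)]] := by decide +kernel

theorem v11 (hC : Cover) {a : MG} (ha : orderOf a = 11) : ch a = 17 := by
  obtain ⟨l, hl, H⟩ := ev_vals hC (ev11 ha) ha vals11
  rw [List.mem_singleton.1 hl] at H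
  have h := H _ List.mem_cons_self
  rwa [pow_one] at h

theorem boxC_11A (hC : Cover) : BoxCM 33 := by
  obtain ⟨x, hx⟩ := exists_ord (p := 11) (by norm_num) (by norm_num)
  exact boxC_of (ty_one sg_11A hx (v11 hC hx)) (H66.M23.Eleven.card_cent hx).le (by rw [cnt_11A])

/-! ### The classes `55A`, `110A`, `22A` -/

theorem ch_xu : ch (xu : MG) = 134 := ch_of_chr (by rw [M5.chr_xu]; norm_num)

theorem sec55 {a : MG} (ha : orderOf a = 11) (h : a * (xu : MG) = xu * a) :
    ch (a * (xu : MG)) = 2 ∧ cc (a * (xu : MG)) = 110 := by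
  obtain ⟨t, -, h2, h3, h4⟩ := M5.secA (IsConj.refl _) (show Commute (xu : MG) a from h.symm) (by rw [ha]; norm_num)
  have h5 : t = .c11 := by
    rw [ha] at h2
    revert h2
    cases t <;> decide
  subst h5
  rw [h]
  exact ⟨ch_of_chr (by rw [h3]; norm_num [Ty.b]), h4⟩

theorem boxC_55A (hC : Cover) : BoxCM 137 := by
  obtain ⟨a, h, ha, -⟩ := M5.exists_sec .c11 (by decide)
  obtain ⟨h1, h2⟩ := sec55 ha h.eq.symm
  exact boxC_of (ty_pq sg_55A (by norm_num) ha h.eq.symm M5.orderOf_xu' (by norm_num) (by norm_num) h1 (v11 hC ha) ch_xu)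
    h2.le (by rw [cnt_55A])

theorem exists_110 (hC : Cover) : ∃ a t : MG, orderOf a = 11 ∧ orderOf t = 2 ∧ a * t = t * a ∧ ch t = 4372 ∧
    ch (a * t) = 5 ∧ TyM 169 (a * (xu * t)) ∧ cc (a * (xu * t)) = 110 := by
  have := finite
  obtain ⟨y, h, hy, -, h1, h2⟩ := M5.exists_sec .c22 (by decide)
  have hy' : orderOf y = 22 := hy
  have hx := M5.orderOf_xu'
  have ha : orderOf (y ^ 12) = 11 := by rw [orderOf_pow' _ (by norm_num), hy']; norm_num
  have ht : orderOf (y ^ 11) = 2 := by rw [orderOf_pow' _ (by norm_num), hy']; norm_num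
  have hat : Commute (y ^ 12) (y ^ 11) := Commute.pow_pow_self y 12 11
  have hxa : Commute (xu : MG) (y ^ 12) := h.pow_right 12
  have hxt : Commute (xu : MG) (y ^ 11) := h.pow_right 11
  have he : y ^ 12 * y ^ 11 = y := by
    rw [← pow_add, show 12 + 11 = 22 + 1 from rfl, pow_succ, ← hy', pow_orderOf_eq_one, one_mul]
  generalize y ^ 12 = a at ha hat hxa he
  generalize y ^ 11 = t at ht hat hxt he
  subst he
  have hg : a * (xu * t) = xu * (a * t) := by rw [← mul_assoc, ← hxa.eq, mul_assoc]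
  have h3 : ch (a * (xu * t)) = 0 := by
    rw [hg]
    exact ch_of_chr (by rw [h1]; norm_num [Ty.b])
  have hag : Commute a ((xu : MG) * t) := hxa.symm.mul_right hat
  have h4 : ch ((xu : MG) * t) = 22 := by
    obtain ⟨s, -, h5, h6, h7⟩ := M5.secA (IsConj.refl _) hxt (by rw [ht]; norm_num)
    have h8 := dvd_cent hag.eq
    rw [ha, h7] at h8
    have h9 : s = .c2A := by
      rw [ht] at h5
      revert h5 h8
      cases s <;> decide
    subst h9
    exact ch_of_chr (by rw [h6]; norm_num [Ty.b])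
  have h5 : ch t = 4372 := by
    refine ch_ta (ta_of_ch ht fun h6 => ?_)
    have h7 := cong Nat.prime_five hx hxt.eq (by rw [ht]; norm_num)
    omega
  have h6 : ch (a * t) = 5 := by
    have h7 := cong (by norm_num) ha hat.eq (by rw [ht]; norm_num)
    have h8 := cong' Nat.prime_two ht hat.eq (by rw [ha]; norm_num)
    have h9 := cong Nat.prime_five hx h.eq (by rw [hy']; norm_num)
    have h10 := ch_abs 51 ((cc_mul (by norm_num) ha hat.eq ht (by norm_num)).le.trans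
      (H680.PQR.eleven_pair ha ht hat.eq.symm)) (by norm_num)
    rw [← hg, h3] at h9
    rw [v11 hC ha] at h8
    omega
  have ho : orderOf ((xu : MG) * t) = 10 := order_mul hxt.eq hx ht (by norm_num)
  have ht2 : t ^ 2 = 1 := by rw [← ht, pow_orderOf_eq_one]
  have e2 : ((xu : MG) * t) ^ 2 = (xu : MG) ^ 2 := by rw [hxt.mul_pow, ht2, mul_one]
  have e5 : ((xu : MG) * t) ^ 5 = t := by
    rw [hxt.mul_pow, ← hx, pow_orderOf_eq_one, one_mul, hx, show 5 = 2 * 2 + 1 from rfl, pow_succ, pow_mul, ht2, one_pow,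
      one_mul]
  refine ⟨a, t, ha, ht, hat.eq, h5, h6, ?_, by rw [hg]; exact h2⟩
  refine ty_of sg_110A (by norm_num) ha hag.eq ho (by norm_num) (by norm_num) ?_
  simp only [List.forall_mem_cons, List.not_mem_nil, false_imp_iff, implies_true, and_true]
  refine ⟨Or.inl ⟨by norm_num, ?_⟩, Or.inl ⟨by norm_num, ?_⟩, Or.inl ⟨by norm_num, ?_⟩, Or.inl ⟨by norm_num, ?_⟩,
    Or.inr ⟨by norm_num, ?_⟩, Or.inr ⟨by norm_num, ?_⟩, Or.inr ⟨by norm_num, ?_⟩⟩
  · rw [pow_one, h3]
  · rw [e2, ← (hxa.pow_left 2).eq, ch_twist Nat.prime_five hx hxa.eq (by rw [ha]; norm_num) (by norm_num), hxa.eq]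
    exact (sec55 ha hxa.eq.symm).1
  · rw [e5, h6]
  · rw [← ho, pow_orderOf_eq_one, mul_one, v11 hC ha]
  · rw [show 11 / 11 = 1 from rfl, pow_one, h4]
  · rw [show 22 / 11 = 2 from rfl, e2, ch_gal (by rw [hx]; norm_num), ch_xu]
  · rw [show 55 / 11 = 5 from rfl, e5, h5]

theorem boxC_110A (hC : Cover) : BoxCM 169 := by
  obtain ⟨a, t, -, -, -, -, -, h1, h2⟩ := exists_110 hC
  exact boxC_of h1 h2.le (by rw [cnt_110A])

theorem boxC_22A (hC : Cover) : BoxCM 73 := by
  obtain ⟨a, t, ha, ht, hat, h1, h2, -⟩ := exists_110 hC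
  exact boxC_of (ty_pq sg_22A (by norm_num) ha hat ht (by norm_num) (by norm_num) h2 (v11 hC ha) h1)
    ((cc_mul (by norm_num) ha hat ht (by norm_num)).le.trans (H680.PQR.eleven_pair ha ht hat.symm)) (by rw [cnt_22A])

/-! ### The classes `33A`, `33B`, `66A` -/

section twelve

open Cfsg.Agent.CoThreeStd.MTwelve Cfsg.Agent.CpAutCo3.MTw

theorem exists_emb11 {a : MG} (ha : orderOf a = 11) : ∃ φ : Spor.M12 →* MG, Emb 11 a φ := by
  obtain ⟨⟨L, h⟩, -⟩ := H66.M23.Eleven.all ha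
  obtain ⟨e⟩ := h.iso
  exact emb_of_sp (by norm_num) ⟨h.ord, h.le, h.card, h.split, h.disj⟩ e

theorem ord_y : orderOf y = 2 := by
  have : Fact (Nat.Prime 2) := ⟨Nat.prime_two⟩
  exact orderOf_eq_prime (by rw [pow_two]; exact CoThreeStd.MTwelve.y_sq) y_ne_one

theorem ord_A0 : orderOf A0 = 3 := by
  have : Fact (Nat.Prime 3) := ⟨Nat.prime_three⟩
  refine orderOf_eq_prime ?_ (wd_ne (l' := []) 1 (by norm_num) (by decide +kernel))
  rw [A0, ← wd_wp]
  exact wd_eq (l' := []) (by decide +kernel)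

theorem B0_eq : B0 = w (Equiv.swap 1 2 * Equiv.swap 0 1) := by
  rw [map_mul, w_q, w_p, ← wd_q, ← wd_p, ← wd_append]
  rfl

theorem B0_inv : B0 = (H287.Blk.MTw.x)⁻¹ := by
  rw [B0_eq, H287.Blk.MTw.x, ← map_inv]
  congr 1

theorem ord_B0 : orderOf B0 = 3 := by rw [B0_inv, orderOf_inv, H287.Blk.MTw.orderOf_x]

theorem cent_three {m : Spor.M12} (hm : orderOf m = 3) : Nat.card (centralizer ({m} : Set Spor.M12)) ≤ 54 :=
  Nat.le_of_lt_succ (H595.MTwelveWeak.card_le (H595.MTwelveWeak.rep_fix (MulEquiv.refl _)) (by rw [hm]; norm_num)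
    (by rw [hm]; norm_num))

theorem cent_B0 : Nat.card (centralizer ({B0} : Set Spor.M12)) ≤ 36 := by
  have h1 := cent_three H287.Blk.MTw.orderOf_x
  obtain ⟨k, hk⟩ := H595.MTwelveWeak.dvd_36
  rw [B0_inv, cent_eq_of_zpowers (x := H287.Blk.MTw.x) (Subgroup.inv_mem _ (Subgroup.mem_zpowers _))
    (by rw [Subgroup.zpowers_inv]; exact Subgroup.mem_zpowers _)]
  omega

theorem cent_yB0 : Nat.card (centralizer ({y * B0} : Set Spor.M12)) ≤ 12 := by
  rw [cent_mul B0_y.symm (by rw [ord_y, ord_B0]; norm_num)]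
  have h1 : Nat.card (Bool × {σ : Equiv.Perm (Fin 5) //
      σ * (Equiv.swap 1 2 * Equiv.swap 0 1) = (Equiv.swap 1 2 * Equiv.swap 0 1) * σ}) = 12 := by
    rw [Nat.card_eq_fintype_card]
    decide +kernel
  rw [← h1]
  refine Nat.card_le_card_of_surjective (fun c => ⟨yw (c.1, c.2.1), mem_centralizer_singleton_iff.2 (yw_comm _).symm,
    mem_centralizer_singleton_iff.2 ?_⟩) ?_
  · obtain ⟨c, σ, hσ⟩ := c
    have h2 : Commute (w σ) B0 := by
      rw [B0_eq]
      exact (show Commute σ _ from hσ).map w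
    cases c
    · exact ((Commute.one_left B0).mul_left h2).eq
    · exact ((show Commute y B0 from B0_y.symm).mul_left h2).eq
  · rintro ⟨g, h2, h3⟩
    have h4 : Commute g B0 := mem_centralizer_singleton_iff.1 h3
    have key : ∀ σ, Commute (w σ) B0 →
        σ * (Equiv.swap 1 2 * Equiv.swap 0 1) = (Equiv.swap 1 2 * Equiv.swap 0 1) * σ := by
      intro σ h5
      apply w_injective
      rw [map_mul, map_mul w _ σ, ← B0_eq]
      exact h5.eq
    obtain ⟨σ, rfl | rfl⟩ := cent_y g (mem_centralizer_singleton_iff.1 h2)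
    · exact ⟨(false, ⟨σ, key σ h4⟩), Subtype.ext (one_mul _)⟩
    · have h5 := (show Commute y B0 from B0_y.symm).inv_left.mul_left h4
      rw [inv_mul_cancel_left] at h5
      exact ⟨(true, ⟨σ, key σ h5⟩), rfl⟩

theorem U0_conj : IsConj (p * r) U0 := by
  refine isConj_iff.2 ⟨(wd [2, 5, 0, 1])⁻¹, ?_⟩
  rw [inv_inv, ← wd_pr, ← wd_cj]
  exact wd_eq (by decide +kernel)

theorem exists_five : ∃ f : Spor.M12, orderOf f = 5 ∧ f * y = y * f := by
  have : Fact (Nat.Prime 5) := ⟨Nat.prime_five⟩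
  refine ⟨w (finRotate 5), ?_, (y_comm _).symm⟩
  rw [orderOf_injective w w_injective]
  exact orderOf_eq_prime (by decide +kernel) (by decide +kernel)

theorem vals55 : vals 55 = [] := by decide +kernel

theorem vals33 : vals 33 = [[(1, -1), (3, 17), (11, 54)]] := by decide +kernel

variable {a : MG} {φ : Spor.M12 →* MG}

theorem ta_y (hC : Cover) (E : Emb 11 a φ) : TA (φ y) := by
  obtain ⟨f, hf, h⟩ := exists_five
  exact ta_of_vals hC ((E.ordf y).trans ord_y) (E.comm_mul h)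
    (order_mul (E.comm f) E.ord ((E.ordf f).trans hf) (by norm_num)) vals55

theorem conj_U0 (hC : Cover) (E : Emb 11 a φ) : IsConj zz (φ U0) := by
  obtain ⟨c, hc⟩ := ev11 E.ord
  have h0 : IsConj zz (c * zz * c⁻¹) := isConj_iff.2 ⟨c, rfl⟩
  obtain ⟨k, hk⟩ := E.reg _ hc.symm (by rw [ord_z h0]; norm_num)
  have h1 : orderOf k = 2 := by rw [← E.ordf, hk, ord_z h0]
  have h2 : k * k = 1 := by rw [← pow_two, ← h1, pow_orderOf_eq_one]
  have h3 : k ≠ 1 := by
    rintro rfl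
    rw [orderOf_one] at h1
    omega
  rw [← hk] at h0
  rcases inv_class k h3 h2 with ⟨m, rfl⟩ | ⟨m, rfl⟩
  · exfalso
    have h4 : IsConj y (m⁻¹ * y * m) := isConj_iff.2 ⟨m⁻¹, by rw [inv_inv]⟩
    have h5 := ch_isConj (h0.trans (φ.map_isConj h4).symm)
    rw [Big.ch_zz, ch_ta (ta_y hC E)] at h5
    omega
  · have h4 : IsConj (p * r) (m⁻¹ * (p * r) * m) := isConj_iff.2 ⟨m⁻¹, by rw [inv_inv]⟩
    exact h0.trans (φ.map_isConj (h4.symm.trans U0_conj))

theorem ty_33A (hC : Cover) (E : Emb 11 a φ) : TyM 105 (a * φ A0) := by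
  have ho := order_mul (E.comm A0) E.ord ((E.ordf A0).trans ord_A0) (by norm_num)
  obtain ⟨l, hl, H⟩ := ev_vals hC (ev_of_conj (conj_U0 hC E) (E.comm_mul A0_U0)) ho vals33
  rw [List.mem_singleton.1 hl] at H
  exact (tyM_iff' sg_33A _).2 ⟨ho, H⟩

theorem ch_A0 (hC : Cover) (E : Emb 11 a φ) : ch (φ A0) = 54 := by
  have h1 := ((tyM_iff' sg_33A _).1 (ty_33A hC E)).2 (11, 54) (by decide)
  have h2 := pw_out (by norm_num) E.ord (E.comm A0) (by rw [E.ordf, ord_A0]; norm_num) 1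
  rw [pow_one] at h2
  exact h2.symm.trans h1

theorem ch_B0 (hC : Cover) (E : Emb 11 a φ) : ch (φ B0) = 783 := by
  have := finite
  obtain ⟨v, hv, hd, h1⟩ := exists_3A'
  obtain ⟨x, hx, ho⟩ := exists_order_mem (H := centralizer ({v} : Set MG)) (p := 11) (by norm_num)
    (by rw [← cc, h1]; norm_num)
  obtain ⟨c, hc⟩ := isConj_iff.1 (H66.M23.Eleven.isConj ho E.ord)
  have h2 := conj_comm c (mem_centralizer_singleton_iff.1 hx)
  rw [hc] at h2
  obtain ⟨k, hk⟩ := E.reg _ h2 (by rw [orderOf_conj', hv]; norm_num)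
  have h3 : orderOf k = 3 := by rw [← E.ordf, hk, orderOf_conj', hv]
  have h4 : ch (φ k) = 783 := by rw [hk, ch_conj, hd]
  have h5 : k ≠ 1 := by
    rintro rfl
    rw [orderOf_one] at h3
    omega
  rcases classes h5 (by rw [← h3, pow_orderOf_eq_one]) with ⟨m, rfl⟩ | ⟨m, rfl⟩
  · have h6 := ch_isConj (φ.map_isConj (isConj_iff.2 ⟨m⁻¹, by rw [inv_inv]⟩ : IsConj A0 (m⁻¹ * A0 * m)))
    rw [ch_A0 hC E] at h6
    omega
  · rw [ch_isConj (φ.map_isConj (isConj_iff.2 ⟨m⁻¹, by rw [inv_inv]⟩ : IsConj B0 (m⁻¹ * B0 * m))), h4]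

theorem cc_33B (E : Emb 11 a φ) : cc (a * φ B0) ≤ 11 * 36 := E.cen_le (by norm_num) (by rw [ord_B0]; norm_num) cent_B0

theorem v33B (hC : Cover) (E : Emb 11 a φ) : ch (a * φ B0) = 2 := by
  have h0 := (E.ordf B0).trans ord_B0
  have h1 := cong (by norm_num) E.ord (E.comm B0) (by rw [h0]; norm_num)
  have h2 := cong' Nat.prime_three h0 (E.comm B0) (by rw [E.ord]; norm_num)
  have h3 := ch_abs 19 (cc_33B E) (by norm_num)
  rw [ch_B0 hC E] at h1
  rw [v11 hC E.ord] at h2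
  omega

theorem ord_yB0 : orderOf (y * B0) = 6 := order_mul B0_y.symm ord_y ord_B0 (by norm_num)

theorem cc_66A (E : Emb 11 a φ) : cc (a * φ (y * B0)) ≤ 11 * 12 :=
  E.cen_le (by norm_num) (by rw [ord_yB0]; norm_num) cent_yB0

theorem ty_66A (hC : Cover) (hN : CountC) (E : Emb 11 a φ) : TyM 149 (a * φ (y * B0)) := by
  have hv := (E.ordf B0).trans ord_B0
  have ht := (E.ordf y).trans ord_y
  have hta := ta_y hC E
  have hav : Commute a (φ B0) := E.comm B0
  have hat : Commute a (φ y) := E.comm y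
  have htv : Commute (φ y) (φ B0) := (show Commute y B0 from B0_y.symm).map φ
  have hd := ch_B0 hC E
  have h33 := v33B hC E
  have hc := cc_66A E
  have ha := E.ord
  rw [map_mul] at hc ⊢
  generalize φ B0 = v at hv hav htv hd h33 hc
  generalize φ y = t at ht hta hat htv hc
  have ht2 : t ^ 2 = 1 := by rw [← ht, pow_orderOf_eq_one]
  have ho : orderOf (t * v) = 6 := order_mul htv.eq ht hv (by norm_num)
  have e2 : (t * v) ^ 2 = v ^ 2 := by rw [htv.mul_pow, ht2, one_mul]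
  have e3 : (t * v) ^ 3 = t := by
    rw [htv.mul_pow, ← hv, pow_orderOf_eq_one, mul_one, hv, pow_succ, ht2, one_mul]
  have h79 : ch (t * v) = 79 := ch_six hC hN hv hd hta htv.eq
  have hag : Commute a (t * v) := hat.mul_right hav
  have h2 : ch (a * v ^ 2) = 2 := by
    rw [(hav.pow_right 2).eq, ch_twist Nat.prime_three hv hav.eq.symm (by rw [ha]; norm_num) (by norm_num), ← hav.eq, h33]
  have h1 : ch (a * (t * v)) = 2 := by
    have h3 := cong (by norm_num) ha hag.eq (by rw [ho]; norm_num)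
    have h4 := ch_abs 11 hc (by norm_num)
    have h5 := cong' Nat.prime_two ht ((hat.mul_left htv.symm).eq) (by
      rw [order_mul hav.eq ha hv (by norm_num)]; norm_num)
    rw [mul_assoc, ← htv.eq, h33] at h5
    omega
  have h3 : ch (a * t) = 5 := by
    have h4 := cong (by norm_num) ha hat.eq (by rw [ht]; norm_num)
    have h5 := cong' Nat.prime_two ht hat.eq (by rw [ha]; norm_num)
    have h6 := cong' Nat.prime_three hv ((hav.mul_left htv).eq) (by
      rw [order_mul hat.eq ha ht (by norm_num)]; norm_num)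
    have h7 := ch_abs 51 ((cc_mul (by norm_num) ha hat.eq ht (by norm_num)).le.trans
      (H680.PQR.eleven_pair ha ht hat.eq.symm)) (by norm_num)
    rw [mul_assoc, h1] at h6
    rw [v11 hC ha] at h5
    rw [ch_ta hta] at h4
    omega
  refine ty_of sg_66A (by norm_num) ha hag.eq ho (by norm_num) (by norm_num) ?_
  simp only [List.forall_mem_cons, List.not_mem_nil, false_imp_iff, implies_true, and_true]
  refine ⟨Or.inl ⟨by norm_num, ?_⟩, Or.inl ⟨by norm_num, ?_⟩, Or.inl ⟨by norm_num, ?_⟩, Or.inl ⟨by norm_num, ?_⟩,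
    Or.inr ⟨by norm_num, ?_⟩, Or.inr ⟨by norm_num, ?_⟩, Or.inr ⟨by norm_num, ?_⟩⟩
  · rw [pow_one, h1]
  · rw [e2, h2]
  · rw [e3, h3]
  · rw [← ho, pow_orderOf_eq_one, mul_one, v11 hC ha]
  · rw [show 11 / 11 = 1 from rfl, pow_one, h79]
  · rw [show 22 / 11 = 2 from rfl, e2, ch_gal (by rw [hv]; norm_num), hd]
  · rw [show 33 / 11 = 3 from rfl, e3, ch_ta hta]

theorem boxC_33A (hC : Cover) : BoxCM 105 := by
  obtain ⟨a, ha⟩ := exists_ord (p := 11) (by norm_num) (by norm_num)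
  obtain ⟨φ, E⟩ := exists_emb11 ha
  exact boxC_of (ty_33A hC E) (E.cen_le (by norm_num) (by rw [ord_A0]; norm_num) (cent_three ord_A0)) (by rw [cnt_33A])

theorem boxC_33B (hC : Cover) : BoxCM 106 := by
  obtain ⟨a, ha⟩ := exists_ord (p := 11) (by norm_num) (by norm_num)
  obtain ⟨φ, E⟩ := exists_emb11 ha
  exact boxC_of (ty_pq sg_33B (by norm_num) ha (E.comm B0) ((E.ordf B0).trans ord_B0) (by norm_num) (by norm_num)
    (v33B hC E) (v11 hC ha) (ch_B0 hC E)) (cc_33B E) (by rw [cnt_33B])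

theorem boxC_66A (hC : Cover) (hN : CountC) : BoxCM 149 := by
  obtain ⟨a, ha⟩ := exists_ord (p := 11) (by norm_num) (by norm_num)
  obtain ⟨φ, E⟩ := exists_emb11 ha
  exact boxC_of (ty_66A hC hN E) (cc_66A E) (by rw [cnt_66A])

end twelve

theorem box_11A (hC : Cover) : BoxM 33 := (boxC_11A hC).box

theorem box_22A (hC : Cover) : BoxM 73 := (boxC_22A hC).box

theorem box_33A (hC : Cover) : BoxM 105 := (boxC_33A hC).box

theorem box_33B (hC : Cover) : BoxM 106 := (boxC_33B hC).box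

theorem box_55A (hC : Cover) : BoxM 137 := (boxC_55A hC).box

theorem box_66A (hC : Cover) (hN : CountC) : BoxM 149 := (boxC_66A hC hN).box

theorem box_110A (hC : Cover) : BoxM 169 := (boxC_110A hC).box

end Cfsg.Agent.TAB.Big
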