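import Cfsg.Agent.TAB.Big.High
import Cfsg.Agent.TAB.M5.A
import Cfsg.Agent.H529.MSev.L17

/-!
# The boxes of the primes 17, 19, 23 (helper58, TAB)
-/

set_option autoImplicit false
set_option maxRecDepth 100000

namespace Cfsg.Agent.TAB.Big

open Cfsg Cfsg.Agent.TAB.Eng Cfsg.Agent.TAB.M Cfsg.Agent.TAB.M7 Cfsg.Agent.BpSpor.MBigModel
open Cfsg.Agent.TAB.C2B (Cover)
open Cfsg.Agent.LThreeB.Row (TA)
open Cfsg.Agent.LThreeMB (XX mk exists_mk mk_eq_one)
open Cfsg.Agent.H529.MSev.L17 (SL7 PSL7 inf17)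
open Subgroup (centralizer zpowers mem_centralizer_singleton_iff)

theorem s3 : H715.Mon.Grp.SThree.{0} := H529.MSev.L17.sThree

/-! ### 23 -/

theorem c23 (x : MG) (hx : orderOf x = 23) : cc x = 552 := H715.Mon.Exact.card23 s3 hx

theorem inf23 {x t : MG} (hx : orderOf x = 23) (hxt : x * t = t * x) (ht : TA t) :
    Nat.card ↥(centralizer ({x} : Set MG) ⊓ centralizer ({t} : Set MG)) = 92 :=
  (H715.Mon.Exact.main23 s3 hx (ord_ta ht) hxt.symm (card_cent_t ht)).2

theorem v46 {x t : MG} (hx : orderOf x = 23) (hxt : x * t = t * x) (ht : TA t) : ch (x * t) = 2 := by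
  have h0 := ord_ta ht
  have h1 := cong (by norm_num) hx hxt (by rw [h0]; norm_num)
  have h2 := ch_abs 9 ((cc_mul (by norm_num) hx hxt h0 (by norm_num)).trans (inf23 hx hxt ht)).le (by norm_num)
  rw [ch_ta ht] at h1
  omega

theorem v23 {x : MG} (hx : orderOf x = 23) : ch x = 4 := by
  obtain ⟨t, ht, hxt⟩ := exists_ta (by norm_num) (by norm_num) (by norm_num) hx
  have h1 := ch_prime (by norm_num) hx
  have h2 := ch_abs 23 (c23 x hx).le (by norm_num)
  have h3 := cong' Nat.prime_two (ord_ta ht) hxt (by rw [hx]; norm_num)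
  rw [v46 hx hxt ht] at h3
  omega

theorem X23 : NM / 552 * 2 ≤ Nat.card {g : MG // orderOf g = 23} :=
  cardX (by norm_num) (by norm_num) c23 (by decide +kernel)

theorem box_23AB : BoxM 75 :=
  box_one X23 (fun _ hg => ty_one sg_23AB hg (v23 hg)) (by rw [cnt_23AB]; decide +kernel)

theorem ty_46CD {x t : MG} (hx : orderOf x = 23) (hxt : x * t = t * x) (ht : TA t) : TyM 129 (x * t) :=
  ty_pq sg_46CD (by norm_num) hx hxt (ord_ta ht) (by norm_num) (by norm_num) (v46 hx hxt ht) (v23 hx) (ch_ta ht)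

theorem box_46CD : BoxM 129 := by
  refine box_fib (p := 23) (m := 2) (n := 6) (by norm_num) X23 (fun _ h => h) (fun _ h => ord_ta h) (fun x hx => ?_)
    (fun _ _ hx hxt ht => ty_46CD hx hxt ht) (by rw [cnt_46CD]; decide +kernel)
  obtain ⟨t, ht, hxt⟩ := exists_ta (by norm_num) (by norm_num) (by norm_num) hx
  exact cnt_ta ht hxt (inf23 hx hxt ht).le (by rw [c23 x hx])

theorem pr_fi {p : ℕ} (hp : p.Prime) (h3 : 3 ≠ p) (h2 : ¬ p ^ 2 ∣ NM)
    (hF : ∃ y : Spor.Fi24', orderOf y = p ∧ ∀ g : Spor.Fi24', g * y = y * g → g ∈ zpowers y) : Pr p 3 783 := by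
  obtain ⟨v, hv, -, hd, ⟨e⟩⟩ := exists_3A
  exact pr_of hp (by norm_num) h3 h2 hv hd e hF

theorem pr23 : Pr 23 3 783 := pr_fi (by norm_num) (by norm_num) (by norm_num) H241.Mon.fi23

theorem ty_69AB {x y : MG} (hx : orderOf x = 23) (hxy : x * y = y * x) (hy : orderOf y = 3) : TyM 152 (x * y) := by
  obtain ⟨h3, h4⟩ := pr23.sec (by norm_num) (by norm_num) (by norm_num) c23 (by norm_num) hx hy hxy
  refine ty_pq sg_69AB (by norm_num) hx hxy hy (by norm_num) (by norm_num) ?_ (v23 hx) h3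
  have h1 := cong (by norm_num) hx hxy (by rw [hy]; norm_num)
  have h2 := ch_abs 9 h4.le (by norm_num)
  rw [h3] at h1
  omega

theorem box_69AB : BoxM 152 :=
  box_fib (p := 23) (m := 3) (by norm_num) X23 (fun _ h => h) (fun _ h => h)
    (fun _ hx => pr23.cnt (k := 1) (by norm_num) (by norm_num) (by norm_num) c23 (by norm_num) (by norm_num)
      (by decide +kernel) hx) (fun _ _ hx hxy hy => ty_69AB hx hxy hy) (by rw [cnt_69AB]; decide +kernel)

/-! ### 19 -/

theorem c19 (x : MG) (hx : orderOf x = 19) : cc x = 1140 := H715.Mon.Exact.card19' s3 hx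

theorem pr19 : Pr 19 3 0 := by
  have := finTh
  obtain ⟨v, hv, -, hd, ⟨e⟩⟩ := exists_3C
  exact pr_of (by norm_num) (by norm_num) (by norm_num) (by norm_num) hv hd e
    (H715.Mon.Cent.self_of_card (by norm_num) (by rw [S1700.result.2]; norm_num)
      fun y hy => H491.PB.Th.card_nineteen hy)

theorem v57 {x y : MG} (hx : orderOf x = 19) (hxy : x * y = y * x) (hy : orderOf y = 3) :
    ch y = 0 ∧ ch (x * y) = 0 ∧ cc (x * y) = 57 := by
  obtain ⟨h3, h4⟩ := pr19.sec (by norm_num) (by norm_num) (by norm_num) c19 (by norm_num) hx hy hxy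
  have h1 := cong (by norm_num) hx hxy (by rw [hy]; norm_num)
  have h2 := ch_abs 9 h4.le (by norm_num)
  rw [h3] at h1
  exact ⟨h3, by omega, h4⟩

theorem v19 {x : MG} (hx : orderOf x = 19) : ch x = 6 := by
  obtain ⟨y, hy, hxy⟩ := pr19.exists hx
  have h1 := ch_prime (by norm_num) hx
  have h2 := ch_abs 33 (c19 x hx).le (by norm_num)
  have h3 := cong' Nat.prime_three hy hxy (by rw [hx]; norm_num)
  rw [(v57 hx hxy hy).2.1] at h3
  omega

theorem boxC_19A : BoxCM 62 := by
  obtain ⟨x, hx⟩ := exists_ord (p := 19) (by norm_num) (by norm_num)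
  exact boxC_of (ty_one sg_19A hx (v19 hx)) (c19 x hx).le (by rw [cnt_19A])

theorem boxC_38A : BoxCM 114 := by
  obtain ⟨x, hx⟩ := exists_ord (p := 19) (by norm_num) (by norm_num)
  obtain ⟨t, ht, hxt⟩ := exists_ta (by norm_num) (by norm_num) (by norm_num) hx
  have h0 := ord_ta ht
  have h4 : cc (x * t) = 76 :=
    (cc_mul (by norm_num) hx hxt h0 (by norm_num)).trans (H715.Mon.Exact.inf19 s3 hx h0 hxt.symm)
  have h1 := cong (by norm_num) hx hxt (by rw [h0]; norm_num)
  have h2 := ch_abs 9 h4.le (by norm_num)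
  rw [ch_ta ht] at h1
  exact boxC_of (ty_pq sg_38A (by norm_num) hx hxt h0 (by norm_num) (by norm_num) (by omega) (v19 hx) (ch_ta ht))
    h4.le (by rw [cnt_38A])

theorem boxC_57A : BoxCM 140 := by
  obtain ⟨x, hx⟩ := exists_ord (p := 19) (by norm_num) (by norm_num)
  obtain ⟨y, hy, hxy⟩ := pr19.exists hx
  obtain ⟨h1, h2, h3⟩ := v57 hx hxy hy
  exact boxC_of (ty_pq sg_57A (by norm_num) hx hxy hy (by norm_num) (by norm_num) h2 (v19 hx) h1) h3.le
    (by rw [cnt_57A])

theorem finHN : Finite Spor.HN := Nat.finite_of_card_ne_zero (by rw [H651.HNF.table.card]; norm_num)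

theorem pr95 : Pr 19 5 134 := by
  have := finHN
  obtain ⟨v, hv, -, ⟨e⟩⟩ := H241.Mon.exists_hn
  have hv' : orderOf (v : MG) = 5 := by rw [Subgroup.orderOf_coe, hv]
  have H : Pr 19 5 (ch (v : MG)) := pr_of (by norm_num) (by norm_num) (by norm_num) (by norm_num) hv' rfl e
    (H715.Mon.Cent.self_of_card (by norm_num) (by rw [H651.HNF.table.card]; norm_num)
      fun y hy => H315.PwHN.card_nineteen hy)
  rcases M5.chr_five hv' ⟨1, by
    rw [one_mul, inv_one, mul_one]
    exact (mem_centralizer_singleton_iff.1 v.2).symm⟩ with h | h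
  · rwa [ch_of_chr (a := 134) (by rw [h]; norm_num)] at H
  · exfalso
    rw [ch_of_chr (a := 9) (by rw [h]; norm_num)] at H
    obtain ⟨x, hx⟩ := exists_ord (p := 19) (by norm_num) (by norm_num)
    obtain ⟨y, hy, hxy⟩ := H.exists hx
    obtain ⟨h3, h4⟩ := H.sec (by norm_num) (by norm_num) (by norm_num) c19 (by norm_num) hx hy hxy
    have h1 := cong (by norm_num) hx hxy (by rw [hy]; norm_num)
    have h2 := ch_abs 9 h4.le (by norm_num)
    have h5 := cong' Nat.prime_five hy hxy (by rw [hx]; norm_num)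
    rw [h3] at h1
    rw [v19 hx] at h5
    omega

theorem ty_95AB {x y : MG} (hx : orderOf x = 19) (hxy : x * y = y * x) (hy : orderOf y = 5) : TyM 166 (x * y) := by
  obtain ⟨h3, h4⟩ := pr95.sec (by norm_num) (by norm_num) (by norm_num) c19 (by norm_num) hx hy hxy
  refine ty_pq sg_95AB (by norm_num) hx hxy hy (by norm_num) (by norm_num) ?_ (v19 hx) h3
  have h1 := cong (by norm_num) hx hxy (by rw [hy]; norm_num)
  have h2 := ch_abs 9 h4.le (by norm_num)
  rw [h3] at h1
  omega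

theorem X19 : NM / 1140 * 1 ≤ Nat.card {g : MG // orderOf g = 19} :=
  cardX (by norm_num) (by norm_num) c19 (by decide +kernel)

theorem box_95AB : BoxM 166 :=
  box_fib (p := 19) (m := 5) (by norm_num) X19 (fun _ h => h) (fun _ h => h)
    (fun _ hx => pr95.cnt (k := 2) (by norm_num) (by norm_num) (by norm_num) c19 (by norm_num) (by norm_num)
      (by decide +kernel) hx) (fun _ _ hx hxy hy => ty_95AB hx hxy hy) (by rw [cnt_95AB]; decide +kernel)

theorem box_19A : BoxM 62 := boxC_19A.box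

theorem box_38A : BoxM 114 := boxC_38A.box

theorem box_57A : BoxM 140 := boxC_57A.box

/-! ### 17 -/

theorem c17 (x : MG) (hx : orderOf x = 17) : cc x = 2856 := H715.Mon.Exact.card17 s3 hx

theorem pr17 : Pr 17 3 783 := pr_fi (by norm_num) (by norm_num) (by norm_num) H241.Mon.fi17

theorem v51 {x y : MG} (hx : orderOf x = 17) (hxy : x * y = y * x) (hy : orderOf y = 3) :
    ch y = 783 ∧ ch (x * y) = 1 ∧ cc (x * y) = 51 := by
  obtain ⟨h3, h4⟩ := pr17.sec (by norm_num) (by norm_num) (by norm_num) c17 (by norm_num) hx hy hxy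
  have h1 := cong (by norm_num) hx hxy (by rw [hy]; norm_num)
  have h2 := ch_abs 9 h4.le (by norm_num)
  rw [h3] at h1
  exact ⟨h3, by omega, h4⟩

theorem v34 {x t : MG} (hx : orderOf x = 17) (hxt : x * t = t * x) (ht : orderOf t = 2) :
    ch t = 4372 ∧ ch (x * t) = 3 ∧ cc (x * t) = 136 := by
  have h0 := ch_ta (ta_of_comm ht hx hxt (by norm_num))
  have h4 : cc (x * t) = 136 := (cc_mul (by norm_num) hx hxt ht (by norm_num)).trans (inf17 hx ht hxt.symm)
  have h1 := cong (by norm_num) hx hxt (by rw [ht]; norm_num)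
  have h2 := ch_abs 11 h4.le (by norm_num)
  rw [h0] at h1
  exact ⟨h0, by omega, h4⟩

theorem v17 {x : MG} (hx : orderOf x = 17) : ch x = 7 := by
  obtain ⟨y, hy, hxy⟩ := pr17.exists hx
  obtain ⟨t, ht, hxt⟩ := exists_ta (by norm_num) (by norm_num) (by norm_num) hx
  have h1 := ch_prime (by norm_num) hx
  have h2 := ch_abs 53 (c17 x hx).le (by norm_num)
  have h3 := cong' Nat.prime_three hy hxy (by rw [hx]; norm_num)
  have h4 := cong' Nat.prime_two (ord_ta ht) hxt (by rw [hx]; norm_num)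
  rw [(v51 hx hxy hy).2.1] at h3
  rw [(v34 hx hxt (ord_ta ht)).2.1] at h4
  omega

theorem boxC_17A : BoxCM 56 := by
  obtain ⟨x, hx⟩ := exists_ord (p := 17) (by norm_num) (by norm_num)
  exact boxC_of (ty_one sg_17A hx (v17 hx)) (c17 x hx).le (by rw [cnt_17A])

theorem boxC_34A : BoxCM 107 := by
  obtain ⟨x, hx⟩ := exists_ord (p := 17) (by norm_num) (by norm_num)
  obtain ⟨t, ht, hxt⟩ := exists_ta (by norm_num) (by norm_num) (by norm_num) hx
  obtain ⟨h1, h2, h3⟩ := v34 hx hxt (ord_ta ht)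
  exact boxC_of (ty_pq sg_34A (by norm_num) hx hxt (ord_ta ht) (by norm_num) (by norm_num) h2 (v17 hx) h1) h3.le
    (by rw [cnt_34A])

theorem boxC_51A : BoxCM 133 := by
  obtain ⟨x, hx⟩ := exists_ord (p := 17) (by norm_num) (by norm_num)
  obtain ⟨y, hy, hxy⟩ := pr17.exists hx
  obtain ⟨h1, h2, h3⟩ := v51 hx hxy hy
  exact boxC_of (ty_pq sg_51A (by norm_num) hx hxy hy (by norm_num) (by norm_num) h2 (v17 hx) h1) h3.le
    (by rw [cnt_51A])

theorem pr119 (hC : Cover) : Pr 17 7 51 := by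
  obtain ⟨v, hv, ⟨e⟩⟩ := H241.Mon.exists_he
  have hv' : orderOf (v : MG) = 7 := by rw [Subgroup.orderOf_coe, hv]
  have H : Pr 17 7 (ch (v : MG)) := pr_of (by norm_num) (by norm_num) (by norm_num) (by norm_num) hv' rfl e
    H241.Mon.he17
  rcases ev_seven hC (ev_of_comm (mem_centralizer_singleton_iff.1 v.2)) hv' with h | h
  · exfalso
    rw [h] at H
    obtain ⟨x, hx⟩ := exists_ord (p := 17) (by norm_num) (by norm_num)
    obtain ⟨y, hy, hxy⟩ := H.exists hx
    obtain ⟨h3, h4⟩ := H.sec (by norm_num) (by norm_num) (by norm_num) c17 (by norm_num) hx hy hxy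
    have h1 := cong (by norm_num) hx hxy (by rw [hy]; norm_num)
    have h2 := ch_abs 10 h4.le (by norm_num)
    have h5 := cong' (by norm_num) hy hxy (by rw [hx]; norm_num)
    rw [h3] at h1
    rw [v17 hx] at h5
    omega
  · rwa [h] at H

theorem ty_119AB (hC : Cover) {x y : MG} (hx : orderOf x = 17) (hxy : x * y = y * x) (hy : orderOf y = 7) :
    TyM 170 (x * y) := by
  obtain ⟨h3, h4⟩ := (pr119 hC).sec (by norm_num) (by norm_num) (by norm_num) c17 (by norm_num) hx hy hxy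
  refine ty_pq sg_119AB (by norm_num) hx hxy hy (by norm_num) (by norm_num) ?_ (v17 hx) h3
  have h1 := cong (by norm_num) hx hxy (by rw [hy]; norm_num)
  have h2 := ch_abs 10 h4.le (by norm_num)
  rw [h3] at h1
  omega

theorem X17 : NM / 2856 * 1 ≤ Nat.card {g : MG // orderOf g = 17} :=
  cardX (by norm_num) (by norm_num) c17 (by decide +kernel)

theorem box_119AB (hC : Cover) : BoxM 170 :=
  box_fib (p := 17) (m := 7) (by norm_num) X17 (fun _ h => h) (fun _ h => h)
    (fun _ hx => (pr119 hC).cnt (k := 2) (by norm_num) (by norm_num) (by norm_num) c17 (by norm_num) (by norm_num)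
      (by decide +kernel) hx) (fun _ _ hx hxy hy => ty_119AB hC hx hxy hy) (by rw [cnt_119AB]; decide +kernel)

/-- an element of order 8 of `SL(2,7)` -/
def mA : SL7 := ⟨!![0, 1; -1, 3], by decide⟩

/-- an element inverting it modulo the centre -/
def mB : SL7 := ⟨!![1, 5; 1, 6], by decide⟩

theorem psl_eq {A B : SL7} (r : ZMod 7) (hr : r ^ 2 = 1) (h : Matrix.scalar (Fin 2) r = (A⁻¹ * B).1) :
    (QuotientGroup.mk A : PSL7) = QuotientGroup.mk B := by
  rw [QuotientGroup.eq, Matrix.SpecialLinearGroup.mem_center_iff]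
  exact ⟨r, by rw [Fintype.card_fin]; exact hr, h⟩

theorem psl_ne {A B : SL7} (h : (A⁻¹ * B).1 0 1 ≠ 0) : (QuotientGroup.mk A : PSL7) ≠ QuotientGroup.mk B := by
  intro h1
  rw [QuotientGroup.eq, Matrix.SpecialLinearGroup.mem_center_iff] at h1
  obtain ⟨r, -, h2⟩ := h1
  apply h
  rw [← h2]
  rfl

theorem psl_four : ∃ a b : PSL7, a ^ 4 = 1 ∧ a ^ 2 ≠ 1 ∧ b * a ^ 2 = a ^ 2 * b ∧ b * a ≠ a * b := by
  refine ⟨QuotientGroup.mk mA, QuotientGroup.mk mB, ?_, ?_, ?_, ?_⟩
  · exact psl_eq (A := mA ^ 4) (B := 1) (-1) (by decide) (by decide +kernel)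
  · exact psl_ne (A := mA ^ 2) (B := 1) (by decide +kernel)
  · exact psl_eq (A := mB * mA ^ 2) (B := mA ^ 2 * mB) (-1) (by decide) (by decide +kernel)
  · exact psl_ne (A := mB * mA) (B := mA * mB) (by decide +kernel)

theorem mk_pow {G : Type*} [Group G] {x g : G} (hg : g * x = x * g) (k : ℕ) :
    mk x hg ^ k = mk x ((show Commute g x from hg).pow_left k).eq := rfl

theorem exists_68 {x : MG} (hx : orderOf x = 17) : ∃ y : MG, orderOf y = 4 ∧ x * y = y * x ∧ cc (x * y) ≤ 68 := by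
  have := finite
  have : Fact (Nat.Prime 2) := ⟨Nat.prime_two⟩
  obtain ⟨e⟩ := H715.Mon.Norm.iso17 s3 hx
  obtain ⟨a, b, h1, h2, h3, h4⟩ := psl_four
  obtain ⟨g, hg, ha⟩ := exists_mk (e.symm a)
  obtain ⟨h, hh, hb⟩ := exists_mk (e.symm b)
  have hy : g ^ 17 * x = x * g ^ 17 := ((show Commute g x from hg).pow_left 17).eq
  have ha' : mk x hy = e.symm a := by
    rw [← mk_pow hg 17, ha, ← map_pow, show 17 = 4 * 4 + 1 from rfl, pow_succ, pow_mul, h1, one_pow, one_mul]
  have h5 : (g ^ 17) ^ 4 = 1 := by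
    have h6 : mk x ((show Commute g x from hg).pow_left 4).eq = 1 := by rw [← mk_pow hg 4, ha, ← map_pow, h1, map_one]
    obtain ⟨i, hi⟩ := (mk_eq_one _).1 h6
    rw [← pow_mul, mul_comm, pow_mul, ← hi, ← zpow_natCast, ← zpow_mul, mul_comm, zpow_mul, zpow_natCast, ← hx,
      pow_orderOf_eq_one, one_zpow]
  generalize g ^ 17 = y at hy ha' h5
  have ht : y ^ 2 * x = x * y ^ 2 := ((show Commute y x from hy).pow_left 2).eq
  have ht' : mk x ht = e.symm (a ^ 2) := by rw [map_pow, ← ha', mk_pow hy 2]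
  have h6 : y ^ 2 ≠ 1 := by
    intro h7
    apply h2
    have h8 : mk x ht = 1 := (mk_eq_one _).2 ⟨0, by rw [h7, zpow_zero]⟩
    rw [ht'] at h8
    exact (map_eq_one_iff _ e.symm.injective).1 h8
  have ho : orderOf y = 4 := orderOf_eq_prime_pow (p := 2) (n := 1) h6 h5
  have ho2 : orderOf (y ^ 2) = 2 := orderOf_eq_prime (by rw [← pow_mul]; exact h5) h6
  refine ⟨y, ho, hy.symm, ?_⟩
  rw [cc_mul (by norm_num) hx hy.symm ho (by norm_num)]
  have hle : centralizer ({x} : Set MG) ⊓ centralizer ({y} : Set MG) ≤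
      centralizer ({x} : Set MG) ⊓ centralizer ({y ^ 2} : Set MG) := inf_le_inf_left _ (cent_le_pow y 2)
  have hd := Subgroup.card_dvd_of_le hle
  have hc := inf17 hx ho2 ht
  have hne : Nat.card ↥(centralizer ({x} : Set MG) ⊓ centralizer ({y} : Set MG)) ≠ 136 := by
    intro h7
    have h8 := Subgroup.eq_of_le_of_card_ge hle (by rw [h7]; exact hc.le)
    have h9 : h * y ^ 2 = y ^ 2 * h := H715.Mon.Exact.comm_of_mk (r := 17) (by decide) hx
      (by rw [← pow_add]; exact h5) ht hh (by rw [hb, ht', ← map_mul, ← map_mul, h3])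
    have h10 : h ∈ centralizer ({x} : Set MG) ⊓ centralizer ({y} : Set MG) := by
      rw [h8]
      exact ⟨mem_centralizer_singleton_iff.2 hh, mem_centralizer_singleton_iff.2 h9⟩
    apply h4
    apply e.symm.injective
    rw [map_mul, map_mul, ← ha', ← hb]
    exact LThreeMB.mk_congr (((show Commute h x from hh).mul_left hy).eq) (((show Commute y x from hy).mul_left hh).eq)
      (mem_centralizer_singleton_iff.1 h10.2)
  have hd' : Nat.card ↥(centralizer ({x} : Set MG) ⊓ centralizer ({y} : Set MG)) ∣ 8 * 17 := hc ▸ hd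
  obtain ⟨k, hk⟩ := hd'
  rcases k with _ | _ | k
  · omega
  · omega
  · nlinarith

theorem vals4 : vals 4 = [[(1, -12), (2, 276)], [(1, 20), (2, 276)], [(1, 52), (2, 4372)], [(1, 276), (2, 276)]] := by
  decide +kernel

/-- an element of order 4 whose square is in `2A` -/
theorem ch_four (hC : Cover) {y : MG} (hy : orderOf y = 4) (h : ch (y ^ 2) = 4372) : ch y = 52 := by
  obtain ⟨l, hl, H⟩ := ev_vals hC (ev_of_two (n := 2)
    (by rw [show 2 ^ 2 = 4 from rfl, ← hy]; exact pow_orderOf_eq_one y)) hy vals4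
  simp only [List.mem_cons, List.not_mem_nil, or_false] at hl
  rcases hl with rfl | rfl | rfl | rfl <;>
    simp only [List.forall_mem_cons, List.not_mem_nil, false_imp_iff, implies_true, and_true, pow_one] at H <;> omega

theorem boxC_68A (hC : Cover) : BoxCM 151 := by
  obtain ⟨x, hx⟩ := exists_ord (p := 17) (by norm_num) (by norm_num)
  obtain ⟨y, hy, hxy, hc⟩ := exists_68 hx
  have ho2 : orderOf (y ^ 2) = 2 := by rw [orderOf_pow' _ (by norm_num), hy]; norm_num
  obtain ⟨h1, h2, -⟩ := v34 hx ((show Commute x y from hxy).pow_right 2).eq ho2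
  have h3 := ch_four hC hy h1
  have h4 := cong (by norm_num) hx hxy (by rw [hy]; norm_num)
  have h5 := ch_abs 9 hc (by norm_num)
  rw [h3] at h4
  refine boxC_of (ty_of sg_68A (by norm_num) hx hxy hy (by norm_num) (by norm_num) ?_) hc (by rw [cnt_68A])
  simp only [List.forall_mem_cons, List.not_mem_nil, false_imp_iff, implies_true, and_true]
  refine ⟨Or.inl ⟨by norm_num, ?_⟩, Or.inl ⟨by norm_num, h2⟩, Or.inl ⟨by norm_num, ?_⟩, Or.inr ⟨by norm_num, ?_⟩,
    Or.inr ⟨by norm_num, h1⟩⟩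
  · rw [pow_one]
    omega
  · rw [← hy, pow_orderOf_eq_one, mul_one, v17 hx]
  · rw [show 17 / 17 = 1 from rfl, pow_one, h3]

theorem box_17A : BoxM 56 := boxC_17A.box

theorem box_34A : BoxM 107 := boxC_34A.box

theorem box_51A : BoxM 133 := boxC_51A.box

theorem box_68A (hC : Cover) : BoxM 151 := (boxC_68A hC).box

end Cfsg.Agent.TAB.Big
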