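import Cfsg.Agent.TAB.Big.Gen
import Cfsg.Agent.TAB.M7.Tool
import Cfsg.Agent.TAB.M4.Box
import Cfsg.Agent.H199.AbMon
import Cfsg.Agent.H241.NHMonF

/-!
# Tools for the sections of the large primes in the Monster (helper58, TAB)
-/

set_option autoImplicit false
set_option maxRecDepth 100000

namespace Cfsg.Agent.TAB.Big

open Cfsg Cfsg.Agent.TAB.Eng Cfsg.Agent.TAB.M Cfsg.Agent.TAB.M7 Cfsg.Agent.BpSpor.MBigModel
open Cfsg.Agent.MonsterX Cfsg.Agent.LThreeMB Cfsg.Agent.LThreeMBTr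
open Cfsg.Agent.MonsterX.Space (V)
open Cfsg.Agent.LThreeB.Row (TA)
open Cfsg.Agent.H199.NSmMon (Ev)
open Cfsg.Agent.H241.NH (Self)
open Subgroup (centralizer zpowers mem_centralizer_singleton_iff)

/-- the order of the Monster -/
abbrev NM : ℕ := 808017424794512875886459904961710757005754368000000000

/-- the order of the centralizer -/
noncomputable abbrev cc (g : MG) : ℕ := Nat.card (centralizer ({g} : Set MG))

theorem ch_abs {g : MG} {c : ℕ} (s : ℕ) (h : cc g ≤ c) (hs : c ≤ (s + 1) ^ 2) : 1 - (s : ℤ) ≤ ch g ∧ ch g ≤ 1 + s := by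
  have h1 := ch_bound' (h.trans hs)
  push_cast at h1
  constructor <;> nlinarith

theorem cop_of {p n : ℕ} (hp : p.Prime) (h : ¬ p ∣ n) : Nat.Coprime p n := (Nat.Prime.coprime_iff_not_dvd hp).2 h

theorem ch_prime {x : MG} {p : ℕ} (hp : p.Prime) (hx : orderOf x = p) : (p : ℤ) ∣ ch x - 196884 := by
  have h := ch_pow_prime x hp
  rwa [← hx, pow_orderOf_eq_one, ch_one, hx] at h

theorem cong {x y : MG} {p : ℕ} (hp : p.Prime) (hx : orderOf x = p) (hxy : x * y = y * x) (hy : ¬ p ∣ orderOf y) :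
    (p : ℤ) ∣ ch (x * y) - ch y := by
  have h := ch_pow_prime (x * y) hp
  have h1 : x ^ p = 1 := by rw [← hx, pow_orderOf_eq_one]
  rwa [(show Commute x y from hxy).mul_pow, h1, one_mul, ch_gal (cop_of hp hy)] at h

theorem cong' {x y : MG} {q : ℕ} (hq : q.Prime) (hy : orderOf y = q) (hxy : x * y = y * x) (hx : ¬ q ∣ orderOf x) :
    (q : ℤ) ∣ ch (x * y) - ch x := by
  rw [hxy]
  exact cong hq hy hxy.symm hx

theorem ch_twist {x w : MG} {p d : ℕ} (hp : p.Prime) (hx : orderOf x = p) (hxw : x * w = w * x) (hw : ¬ p ∣ orderOf w)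
    (hd : ¬ p ∣ d) : ch (x ^ d * w) = ch (x * w) := by
  have := finite
  have hc := cop_of hp hw
  obtain ⟨k, h1, h2⟩ := Nat.chineseRemainder hc d 1
  have h3 : (x * w) ^ k = x ^ d * w := by
    rw [(show Commute x w from hxw).mul_pow, pow_eq_pow_iff_modEq.2 (hx.symm ▸ h1), pow_eq_pow_iff_modEq.2 h2, pow_one]
  rw [← h3]
  apply ch_gal
  rw [order_mul hxw hx rfl hc]
  refine Nat.Coprime.mul_right ?_ ?_
  · rw [Nat.coprime_iff_gcd_eq_one, h1.gcd_eq]
    exact (cop_of hp hd).symm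
  · rw [Nat.coprime_iff_gcd_eq_one, h2.gcd_eq]
    exact Nat.gcd_one_left _

theorem not_dvd_pow {y : MG} {p : ℕ} (h : ¬ p ∣ orderOf y) (d : ℕ) : ¬ p ∣ orderOf (y ^ d) := fun h1 =>
  h (h1.trans (orderOf_pow_dvd d))

theorem pw_in {x y : MG} {p d : ℕ} (hp : p.Prime) (hx : orderOf x = p) (hxy : x * y = y * x) (hy : ¬ p ∣ orderOf y)
    (hd : ¬ p ∣ d) : ch ((x * y) ^ d) = ch (x * y ^ d) := by
  rw [(show Commute x y from hxy).mul_pow]
  exact ch_twist hp hx ((show Commute x y from hxy).pow_right d).eq (not_dvd_pow hy d) hd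

theorem pw_out {x y : MG} {p : ℕ} (hp : p.Prime) (hx : orderOf x = p) (hxy : x * y = y * x) (hy : ¬ p ∣ orderOf y)
    (e : ℕ) : ch ((x * y) ^ (p * e)) = ch (y ^ e) := by
  have h1 : x ^ p = 1 := by rw [← hx, pow_orderOf_eq_one]
  rw [(show Commute x y from hxy).mul_pow, pow_mul, h1, one_pow, one_mul, mul_comm, pow_mul]
  exact ch_gal (cop_of hp (not_dvd_pow hy e))

/-- **the type of a product** -/
theorem ty_of {i o : ℕ} {l : List (ℕ × ℤ)} (h : sg dat val i = (o, l)) {x y : MG} {p m : ℕ} (hp : p.Prime)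
    (hx : orderOf x = p) (hxy : x * y = y * x) (hy : orderOf y = m) (hm : ¬ p ∣ m) (ho : p * m = o)
    (H : ∀ e ∈ l, (¬ p ∣ e.1 ∧ ch (x * y ^ e.1) = e.2) ∨ (p ∣ e.1 ∧ ch (y ^ (e.1 / p)) = e.2)) : TyM i (x * y) := by
  refine (tyM_iff' h _).2 ⟨(order_mul hxy hx hy (cop_of hp hm)).trans ho, fun e he => ?_⟩
  rcases H e he with ⟨h1, h2⟩ | ⟨h1, h2⟩
  · rw [pw_in hp hx hxy (hy ▸ hm) h1, h2]
  · rw [← h2, ← pw_out hp hx hxy (hy ▸ hm), Nat.mul_div_cancel' h1]

theorem ty_one {i p : ℕ} {a : ℤ} (h : sg dat val i = (p, [(1, a)])) {x : MG} (hx : orderOf x = p) (ha : ch x = a) :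
    TyM i x := by
  refine (tyM_iff' h _).2 ⟨hx, fun e he => ?_⟩
  rw [List.mem_singleton.1 he, pow_one, ha]

theorem ty_pq {i o p q : ℕ} {a b d : ℤ} (h : sg dat val i = (o, [(1, a), (q, b), (p, d)])) {x y : MG} (hp : p.Prime)
    (hx : orderOf x = p) (hxy : x * y = y * x) (hy : orderOf y = q) (hm : ¬ p ∣ q) (ho : p * q = o)
    (ha : ch (x * y) = a) (hb : ch x = b) (hd : ch y = d) : TyM i (x * y) := by
  refine ty_of h hp hx hxy hy hm ho ?_
  simp only [List.forall_mem_cons, List.not_mem_nil, false_imp_iff, implies_true, and_true]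
  refine ⟨Or.inl ⟨hp.not_dvd_one, by rw [pow_one, ha]⟩, Or.inl ⟨hm, ?_⟩, Or.inr ⟨dvd_rfl, ?_⟩⟩
  · rw [← hy, pow_orderOf_eq_one, mul_one, hb]
  · rw [Nat.div_self hp.pos, pow_one, hd]

theorem cc_mul {x y : MG} {p m : ℕ} (hp : p.Prime) (hx : orderOf x = p) (hxy : x * y = y * x) (hy : orderOf y = m)
    (hm : ¬ p ∣ m) : cc (x * y) = Nat.card ↥(centralizer ({x} : Set MG) ⊓ centralizer ({y} : Set MG)) := by
  rw [cc, cent_mul hxy (by rw [hx, hy]; exact cop_of hp hm)]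

theorem cc_le {x y : MG} {p m : ℕ} (hp : p.Prime) (hx : orderOf x = p) (hxy : x * y = y * x) (hy : orderOf y = m)
    (hm : ¬ p ∣ m) : cc (x * y) ≤ cc x := by
  have := finite
  rw [cc_mul hp hx hxy hy hm]
  exact Subgroup.card_le_of_le inf_le_left

/-! ### Boxes -/

theorem boxC_of {i c : ℕ} {g : MG} (hg : TyM i g) (hc : cc g ≤ c) (h : dat.cnt i * c ≤ NM) : BoxCM i :=
  BoxC.of_le hg hc (by rw [card_M]; exact h)

theorem exists_ord {p : ℕ} (hp : p.Prime) (hd : p ∣ NM) : ∃ x : MG, orderOf x = p := by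
  have := finite
  have : Fact p.Prime := ⟨hp⟩
  exact exists_prime_orderOf_dvd_card' p (by rw [card_M]; exact hd)

theorem cardX {p c k : ℕ} (hp : p.Prime) (hd : p ∣ NM) (hc : ∀ g : MG, orderOf g = p → cc g = c)
    (hk : ∀ j < k, (NM / c * j + 1) % p ≠ 0) : NM / c * k ≤ Nat.card {g : MG // orderOf g = p} := by
  have := finite
  exact card_order_ge hp (by rw [card_M]; exact hd) hc (by rw [card_M]) hk

theorem box_one {i p n : ℕ} (hX : n ≤ Nat.card {g : MG // orderOf g = p}) (hT : ∀ g : MG, orderOf g = p → TyM i g)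
    (h : dat.cnt i ≤ n) : BoxM i := by
  have := finite
  refine (h.trans hX).trans (Nat.card_le_card_of_injective (fun g => ⟨g.1, hT _ g.2⟩) ?_)
  intro a b hab
  exact Subtype.ext (congrArg Subtype.val hab :)

theorem box_fib {i p m nX n : ℕ} (hcop : Nat.Coprime p m) {P R : MG → Prop} (hX : nX ≤ Nat.card {g : MG // P g})
    (hP : ∀ x, P x → orderOf x = p) (hR : ∀ y, R y → orderOf y = m)
    (hn : ∀ x, P x → n ≤ Nat.card {y : MG // x * y = y * x ∧ R y})
    (hQ : ∀ x y, P x → x * y = y * x → R y → TyM i (x * y)) (h : dat.cnt i ≤ nX * n) : BoxM i := by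
  have := finite
  exact (h.trans (Nat.mul_le_mul_right _ hX)).trans (card_pairs hcop
    (fun x hx => by rw [← hP x hx, pow_orderOf_eq_one]) (fun y hy => by rw [← hR y hy, pow_orderOf_eq_one]) hn hQ)

/-! ### Involutions -/

theorem ch_zz : ch zz = 276 := ch_of_chr (by rw [M4.chr_zz]; norm_num)

theorem ch_ta {v : MG} (h : TA v) : ch v = 4372 := ch_of_chr (by rw [M4.chr_ta h]; norm_num)

theorem ord_ta {v : MG} (h : TA v) : orderOf v = 2 := ((tyM_iff sg_2A v).1 (M4.ty_of_ta h)).1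

theorem ta_conj {v : MG} (h : TA v) (c : MG) : TA (c * v * c⁻¹) := IsConj.trans h (isConj_iff.2 ⟨c, rfl⟩)

theorem ta_of_ch {v : MG} (hv : orderOf v = 2) (h : ch v ≠ 276) : TA v :=
  M4.ta_of_chr hv fun h1 => h (ch_of_chr (by rw [h1]; norm_num))

theorem ta_of_comm {t y : MG} {r : ℕ} (ht : orderOf t = 2) (hy : orderOf y = r) (h : y * t = t * y) (hr : ¬ r ∣ NC) :
    TA t := by
  rcases cls ht with ⟨g, rfl⟩ | h1
  · exfalso
    apply hr
    have h2 := dvd_cent h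
    rwa [hy, card_cent_conj, card_cent_z] at h2
  · exact h1

theorem exists_ta {p : ℕ} (hp : p.Prime) (h2 : ¬ p ^ 2 ∣ NM) (hd : p ∣ 2 * 4154781481226426191177580544000000) {y : MG}
    (hy : orderOf y = p) : ∃ t : MG, TA t ∧ y * t = t * y := by
  have := finite
  have h1 : TA _ := M4.ta_of_ty M4.ty_2A
  obtain ⟨c, hc⟩ := exists_comm hp (by rw [card_M]; exact h2) (by rw [card_cent_t h1]; exact hd) hy
  exact ⟨_, ta_conj h1 c, hc⟩

/-! ### Elements of order 3 -/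

theorem three_in {x : centralizer ({zz} : Set MG)} (hx : orderOf x = 3) :
    (ch (x : MG) = 54 ∧ cc x ∣ 3 ^ 13 * (448345497600 * 2)) ∨ cc x = 3 * 90745943887872000 ∨
      (ch (x : MG) = 783 ∧ cc x = 3 * 1255205709190661721292800) := by
  have := finite
  have := simple
  have I := CoOneFin.coOne
  have hxo : orderOf (x : MG) = 3 := by rw [Subgroup.orderOf_coe, hx]
  have htr := KPair.trNe KDone.lft LThreeB.Row.cent (LThreeMBTr.traceNe KDone.lft LThreeMBTr.TensK.tens)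
  rcases I.ranks (pi x) (orderOf_pi chart hx) with h1 | h1 | h1 | h1
  · exact Or.inl ⟨ch_of_chr (by rw [M4.chr_zero hx h1]; norm_num), H199.AbMon.three_zero' hx h1⟩
  · left
    obtain ⟨x₀, u, g, hx₀, hfr₀, huz, hux, hne, hg⟩ :=
      KPair.hasPair KDone.lft LThreeB.Row.cent PreUniq.MonRow.second COct.octPair
    obtain ⟨k, hk⟩ := conj_six chart htr I.ranks I.six
      (fun x hx h2 => ⟨(good_of_inputs chart I hx h2 : Good.{0} _).simple, (good_of_inputs chart I hx h2 : Good.{0} _).nc⟩)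
      hx₀ hfr₀ huz hux hne hg hx h1
    rw [← ch_conj k, cc, ← card_cent_conj k, hk]
    exact ⟨ch_of_chr (by rw [M4.chr_zero hx₀ hfr₀]; norm_num), H199.AbMon.three_zero' hx₀ hfr₀⟩
  · right; left
    obtain ⟨e⟩ := LThreeB.isoTh_of_inputs chart I hx h1
    rw [cc, M4.card_xx, hxo, Nat.card_congr e.toEquiv, Cfsg.Agent.S1700.result.2]
  · right; right
    obtain ⟨e⟩ := LThreeB.isoFi_of_inputs chart I hx h1
    exact ⟨ch_of_chr (by rw [M4.chr_twelve hx h1]; norm_num),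
      by rw [cc, M4.card_xx, hxo, Nat.card_congr e.toEquiv, Cfsg.Agent.S1698.result.2]⟩

theorem three_ev {x : MG} (hx : orderOf x = 3) (he : Ev x) :
    (ch x = 54 ∧ cc x ∣ 3 ^ 13 * (448345497600 * 2)) ∨ cc x = 3 * 90745943887872000 ∨
      (ch x = 783 ∧ cc x = 3 * 1255205709190661721292800) := by
  obtain ⟨c, hc⟩ := ev_iff.1 he
  have h := three_in (x := ⟨c * x * c⁻¹, mem_centralizer_singleton_iff.2 hc⟩)
    (by rw [Subgroup.orderOf_mk, orderOf_conj', hx])
  simp only [cc, ch_conj, card_cent_conj] at h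
  exact h

theorem ev_three_of {x t : MG} (hx : orderOf x = 3) (ht : orderOf t = 2) (h : t * x = x * t) : Ev x := by
  refine H199.NSmMon.ev_of_even hx fun ho => ?_
  have h1 := dvd_cent h
  rw [ht] at h1
  exact (Nat.not_even_iff_odd.2 ho) (even_iff_two_dvd.2 h1)

theorem exists_3A : ∃ v : MG, orderOf v = 3 ∧ v * zz = zz * v ∧ ch v = 783 ∧ Spor.IsoFi24' (XX v) := by
  obtain ⟨v, hv, hfr, h⟩ := H241.Mon.exists_fi
  exact ⟨v, by rw [Subgroup.orderOf_coe, hv], mem_centralizer_singleton_iff.1 v.2,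
    ch_of_chr (by rw [M4.chr_twelve hv hfr]; norm_num), h⟩

theorem exists_3C : ∃ v : MG, orderOf v = 3 ∧ v * zz = zz * v ∧ ch v = 0 ∧ Spor.IsoTh (XX v) := by
  obtain ⟨h1, h2⟩ := (tyM_iff' sg_3C _).1 M4.ty_3C
  have h3 := h2 _ List.mem_cons_self
  rw [pow_one] at h3
  refine ⟨_, h1, M4.gw_comm _, h3, ?_⟩
  rcases M4.three_in (x := ⟨_, mem_centralizer_singleton_iff.2 (M4.gw_comm (w := [38, 36, 22]) (by decide))⟩)
    (by rw [Subgroup.orderOf_mk, h1]) with h | h | h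
  · rw [chr_eq_ch, h3] at h
    norm_num at h
  · exact h
  · have h4 := h.1
    rw [chr_eq_ch, h3] at h4
    norm_num at h4

/-! ### Sections of the form `p × q` -/

/-- every `x` of order `p` has a partner `v` of order `q` and trace `d` with `C(x) ∩ C(v) = ⟨x, v⟩` -/
def Pr (p q : ℕ) (d : ℤ) : Prop := ∀ x : MG, orderOf x = p → ∃ v : MG, orderOf v = q ∧ Self v x ∧ ch v = d

theorem pr_of {p q : ℕ} {d : ℤ} (hp : p.Prime) (hq : q.Prime) (hpq : q ≠ p) (h2 : ¬ p ^ 2 ∣ NM) {v : MG}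
    (hv : orderOf v = q) (hd : ch v = d) {F : Type} [Group F] (e : XX v ≃* F)
    (hF : ∃ y : F, orderOf y = p ∧ ∀ g : F, g * y = y * g → g ∈ zpowers y) : Pr p q d := by
  have := finite
  intro x hx
  obtain ⟨y0, hy0, hC⟩ := H241.Mon.self_congr e hF
  obtain ⟨y1, hy1, hs⟩ := H241.NH.exists_self hq hp hpq hv hy0 hC
  obtain ⟨g, hg⟩ := H241.Mon.exists_self_conj hp (by rw [card_M]; exact h2) hs hy1 hx
  exact ⟨_, by rw [orderOf_conj', hv], hg, by rw [ch_conj, hd]⟩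

theorem Pr.sec {p q c : ℕ} {d : ℤ} (H : Pr p q d) (hp : p.Prime) (hq : q.Prime) (hpq : ¬ p ∣ q)
    (hc : ∀ x : MG, orderOf x = p → cc x = c) (h2 : ¬ q ^ 2 ∣ c) {x y : MG} (hx : orderOf x = p) (hy : orderOf y = q)
    (hxy : x * y = y * x) : ch y = d ∧ cc (x * y) = p * q := by
  have := finite
  obtain ⟨v, hv, hs, hd⟩ := H x hx
  obtain ⟨k, hk, h3, h4⟩ := exists_conj_in (H := centralizer ({x} : Set MG)) hq (by rw [← cc, hc x hx]; exact h2) hv hy
    (mem_centralizer_singleton_iff.2 hs.1) (mem_centralizer_singleton_iff.2 hxy.symm)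
  have hky : orderOf (k * y * k⁻¹) = q := by rw [orderOf_conj', hy]
  refine ⟨by rw [← ch_conj k, ch_of_zpowers h3 (hky.trans hv.symm), hd], ?_⟩
  have hkx : k * x * k⁻¹ = x := by rw [mem_centralizer_singleton_iff.1 hk, mul_inv_cancel_right]
  have h5 : k * (x * y) * k⁻¹ = x * (k * y * k⁻¹) := by
    conv_rhs => rw [← hkx]
    group
  have h6 : x * (k * y * k⁻¹) = (k * y * k⁻¹) * x := by
    have h7 := conj_comm k hxy
    rwa [hkx] at h7
  rw [cc, ← card_cent_conj k, h5, ← card_self hv hx (cop_of hp hpq) hs.1 hs.2, ← cc, ← cc, cc_mul hp hx h6 hky hpq,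
    cc_mul hp hx hs.1.symm hv hpq, cent_eq_of_zpowers h3 h4]

theorem Pr.cnt {p q c k : ℕ} {d : ℤ} (H : Pr p q d) (hp : p.Prime) (hq : q.Prime) (hpq : ¬ p ∣ q)
    (hc : ∀ x : MG, orderOf x = p → cc x = c) (h1 : q ∣ c) (h2 : ¬ q ^ 2 ∣ c)
    (hk : ∀ j < k, (c / (p * q) * j + 1) % q ≠ 0) {x : MG} (hx : orderOf x = p) :
    c / (p * q) * k ≤ Nat.card {y : MG // x * y = y * x ∧ orderOf y = q} := by
  have := finite
  refine card_order_in (H := centralizer ({x} : Set MG)) (c := p * q) hq (by rw [← cc, hc x hx]; exact h1)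
    (fun g hg ho => ?_) (by rw [← cc, hc x hx]) hk fun g hg ho => ⟨(mem_centralizer_singleton_iff.1 hg).symm, ho⟩
  have h3 := (mem_centralizer_singleton_iff.1 hg).symm
  rw [← cc_mul hp hx h3 ho hpq]
  exact (H.sec hp hq hpq hc h2 hx ho h3).2

theorem Pr.exists {p q : ℕ} {d : ℤ} (H : Pr p q d) {x : MG} (hx : orderOf x = p) :
    ∃ y : MG, orderOf y = q ∧ x * y = y * x := by
  obtain ⟨v, hv, hs, -⟩ := H x hx
  exact ⟨v, hv, hs.1.symm⟩

/-- the number of the `2A`-involutions commuting with `x` -/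
theorem cnt_ta {x t : MG} (ht : TA t) (hxt : x * t = t * x) {d n : ℕ}
    (hd : Nat.card ↥(centralizer ({x} : Set MG) ⊓ centralizer ({t} : Set MG)) ≤ d) (hn : n * d ≤ cc x) :
    n ≤ Nat.card {y : MG // x * y = y * x ∧ TA y} := by
  have := finite
  refine le_cls (H := centralizer ({x} : Set MG)) (mem_centralizer_singleton_iff.2 hxt.symm) hd hn fun h hh => ?_
  have hkx : h * x * h⁻¹ = x := by rw [mem_centralizer_singleton_iff.1 hh, mul_inv_cancel_right]
  have h7 := conj_comm h hxt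
  rw [hkx] at h7
  exact ⟨h7, ta_conj ht h⟩

end Cfsg.Agent.TAB.Big
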